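import Cfsg.Agent.Lib.CharCore.Complete
import Cfsg.Agent.Lib.CharInd.Char

/-! Mackey's inner product formula for induced functions, and characters of finite products. -/

set_option autoImplicit false
set_option linter.unusedSectionVars false

open scoped ComplexConjugate
open Cfsg

namespace Cfsg.Agent.GLCusp57

open Cfsg.Agent.CharInd

variable {G : Type*} [Group G] [Fintype G]

/-- The integrand of a Mackey term. -/
noncomputable def mackeyFun (P Q : Subgroup G) (θ : P → ℂ) (η : Q → ℂ) (x g : G) : ℂ :=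
  extendByZero P θ g * conj (extendByZero Q η (x⁻¹ * g * x))

/-- The Mackey term of `x`, before normalisation. -/
noncomputable def mackeySum (P Q : Subgroup G) (θ : P → ℂ) (η : Q → ℂ) (x : G) : ℂ :=
  ∑ g : G, mackeyFun P Q θ η x g

/-- The order of `P ∩ x Q x⁻¹`. -/
noncomputable def interCard (P Q : Subgroup G) (x : G) : ℕ :=
  Nat.card {g : G // g ∈ P ∧ x⁻¹ * g * x ∈ Q}

/-- The Mackey term of `x`. -/
noncomputable def mackeyMean (P Q : Subgroup G) (θ : P → ℂ) (η : Q → ℂ) (x : G) : ℂ :=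
  mackeySum P Q θ η x / (interCard P Q x : ℂ)

variable {P Q : Subgroup G} {θ : P → ℂ} {η : Q → ℂ}

theorem interCard_pos (x : G) : 0 < interCard P Q x := by
  have : Nonempty {g : G // g ∈ P ∧ x⁻¹ * g * x ∈ Q} := ⟨⟨1, P.one_mem, by simp⟩⟩
  exact Nat.card_pos

theorem mackeyFun_eq_zero {x g : G} (h : ¬ (g ∈ P ∧ x⁻¹ * g * x ∈ Q)) :
    mackeyFun P Q θ η x g = 0 := by
  rcases not_and_or.1 h with h | h
  · rw [mackeyFun, extendByZero_notMem _ h, zero_mul]
  · rw [mackeyFun, extendByZero_notMem _ h, map_zero, mul_zero]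

theorem mackeyFun_of_mem {x g : G} (hg : g ∈ P) (hgx : x⁻¹ * g * x ∈ Q) :
    mackeyFun P Q θ η x g = θ ⟨g, hg⟩ * conj (η ⟨_, hgx⟩) := by
  rw [mackeyFun, extendByZero_mem _ hg, extendByZero_mem _ hgx]

theorem mackeyFun_of_mem' {x g : G} {a : P} {b : Q} (ha : (a : G) = g) (hb : (b : G) = x⁻¹ * g * x) :
    mackeyFun P Q θ η x g = θ a * conj (η b) := by
  subst ha
  rw [mackeyFun, extendByZero_coe, ← hb, extendByZero_coe]

theorem card_mul_classInner_indFun (θ : P → ℂ) (η : Q → ℂ) :
    (Nat.card P : ℂ) * (Nat.card Q : ℂ) * classInner (indFun P θ) (indFun Q η) =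
      ∑ x : G, mackeySum P Q θ η x := by
  classical
  rw [classInner_indFun_left P θ (isClassFunction_indFun Q η)]
  unfold classInner
  simp only [indFun_apply, map_mul, map_inv₀, Complex.conj_natCast, map_sum]
  rw [← sum_extendByZero_mul P θ fun g => ((Nat.card Q : ℂ)⁻¹ *
    ∑ x : G, conj (extendByZero Q η (x⁻¹ * g * x)))]
  rw [show (∑ x : G, mackeySum P Q θ η x) = ∑ g : G, extendByZero P θ g *
    ∑ x : G, conj (extendByZero Q η (x⁻¹ * g * x)) by
      simp only [mackeySum, mackeyFun, Finset.mul_sum]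
      exact Finset.sum_comm]
  rw [Finset.mul_sum, Finset.mul_sum]
  refine Finset.sum_congr rfl fun g _ => ?_
  field_simp [natCard_subgroup_ne_zero P, natCard_subgroup_ne_zero Q]

theorem mackeySum_mul (hθ : IsClassFunction P θ) (hη : IsClassFunction Q η) (x : G) (p : P) (q : Q) :
    mackeySum P Q θ η ((p : G) * x * q) = mackeySum P Q θ η x := by
  unfold mackeySum
  refine Fintype.sum_equiv (MulAut.conj ((p : G)⁻¹)).toEquiv _ _ fun g => ?_
  simp only [mackeyFun, MulEquiv.toEquiv_eq_coe, MulEquiv.coe_toEquiv, MulAut.conj_apply, inv_inv]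
  have h1 := extendByZero_conj_mem hθ p⁻¹ g
  have h2 := extendByZero_conj_mem hη q⁻¹ (x⁻¹ * ((p : G)⁻¹ * g * p) * x)
  rw [Subgroup.coe_inv, inv_inv] at h1 h2
  rw [h1, ← h2]
  congr 3
  group

open Classical in
/-- The double coset of `x`. -/
noncomputable def cell (P Q : Subgroup G) (x : G) : Finset G :=
  Finset.univ.filter fun y => ∃ p ∈ P, ∃ q ∈ Q, y = p * x * q

theorem mem_cell {x y : G} : y ∈ cell P Q x ↔ ∃ p ∈ P, ∃ q ∈ Q, y = p * x * q := by
  simp [cell]

theorem card_cell_mul (P Q : Subgroup G) (x : G) :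
    (cell P Q x).card * interCard P Q x = Nat.card P * Nat.card Q := by
  classical
  have hmaps : ∀ a ∈ (Finset.univ : Finset (P × Q)), (a.1 : G) * x * a.2 ∈ cell P Q x :=
    fun a _ => mem_cell.2 ⟨_, a.1.2, _, a.2.2, rfl⟩
  rw [← Nat.card_prod, Nat.card_eq_fintype_card, ← Finset.card_univ,
    Finset.card_eq_sum_card_fiberwise hmaps]
  rw [← smul_eq_mul, ← Finset.sum_const]
  refine Finset.sum_congr rfl fun y hy => ?_
  obtain ⟨p0, hp0, q0, hq0, rfl⟩ := mem_cell.1 hy
  rw [interCard, ← Nat.card_eq_finsetCard]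
  refine Nat.card_congr
    { toFun := fun h => ⟨(⟨p0 * h.1, P.mul_mem hp0 h.2.1⟩,
        ⟨x⁻¹ * h.1⁻¹ * x * q0, Q.mul_mem (by simpa [mul_assoc] using Q.inv_mem h.2.2) hq0⟩), by
          simp only [Finset.mem_filter, Finset.mem_univ, true_and]
          group⟩
      invFun := fun a => ⟨p0⁻¹ * (a.1.1 : G), P.mul_mem (P.inv_mem hp0) a.1.1.2, ?_⟩
      left_inv := fun h => Subtype.ext (by simp)
      right_inv := fun a => ?_ }
  · have he := (Finset.mem_filter.1 a.2).2
    have : x⁻¹ * (p0⁻¹ * (a.1.1 : G)) * x = q0 * (a.1.2 : G)⁻¹ := by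
      rw [eq_mul_inv_iff_mul_eq]
      rw [show x⁻¹ * (p0⁻¹ * (a.1.1 : G)) * x * a.1.2 = x⁻¹ * p0⁻¹ * ((a.1.1 : G) * x * a.1.2) by
        group, he]
      group
    rw [this]
    exact Q.mul_mem hq0 (Q.inv_mem a.1.2.2)
  · have he := (Finset.mem_filter.1 a.2).2
    refine Subtype.ext (Prod.ext (Subtype.ext (by simp)) (Subtype.ext ?_))
    show x⁻¹ * (p0⁻¹ * (a.1.1 : G))⁻¹ * x * q0 = a.1.2
    calc x⁻¹ * (p0⁻¹ * (a.1.1 : G))⁻¹ * x * q0
        = x⁻¹ * (a.1.1 : G)⁻¹ * (p0 * x * q0) := by group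
      _ = x⁻¹ * (a.1.1 : G)⁻¹ * ((a.1.1 : G) * x * a.1.2) := congrArg (x⁻¹ * (a.1.1 : G)⁻¹ * ·) he.symm
      _ = a.1.2 := by group

/-- Mackey's formula, with explicit representatives of the double cosets that contribute. -/
theorem classInner_indFun_eq_sum (hθ : IsClassFunction P θ) (hη : IsClassFunction Q η)
    {ι : Type*} [Fintype ι] (r : ι → G)
    (hsep : ∀ i j, ∀ p ∈ P, ∀ q ∈ Q, r j = p * r i * q → i = j)
    (hsupp : ∀ y : G, mackeySum P Q θ η y ≠ 0 → ∃ i, ∃ p ∈ P, ∃ q ∈ Q, y = p * r i * q) :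
    classInner (indFun P θ) (indFun Q η) = ∑ i, mackeyMean P Q θ η (r i) := by
  classical
  have hPQ : (Nat.card P : ℂ) * (Nat.card Q : ℂ) ≠ 0 :=
    mul_ne_zero (natCard_subgroup_ne_zero P) (natCard_subgroup_ne_zero Q)
  apply mul_left_cancel₀ hPQ
  rw [card_mul_classInner_indFun, Finset.mul_sum]
  have hdisj : ∀ i ∈ (Finset.univ : Finset ι), ∀ j ∈ (Finset.univ : Finset ι), i ≠ j →
      Disjoint (cell P Q (r i)) (cell P Q (r j)) := by
    intro i _ j _ hij
    rw [Finset.disjoint_left]
    intro y hy hy'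
    obtain ⟨p, hp, q, hq, rfl⟩ := mem_cell.1 hy
    obtain ⟨p', hp', q', hq', he⟩ := mem_cell.1 hy'
    refine hij (hsep i j (p'⁻¹ * p) (P.mul_mem (P.inv_mem hp') hp) (q * q'⁻¹)
      (Q.mul_mem hq (Q.inv_mem hq')) ?_)
    rw [show p'⁻¹ * p * r i * (q * q'⁻¹) = p'⁻¹ * (p * r i * q) * q'⁻¹ by group, he]
    group
  rw [← Finset.sum_subset (Finset.subset_univ (Finset.univ.biUnion fun i => cell P Q (r i)))
    (fun y _ hy => by
      by_contra hne
      obtain ⟨i, p, hp, q, hq, rfl⟩ := hsupp y hne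
      exact hy (Finset.mem_biUnion.2 ⟨i, Finset.mem_univ _, mem_cell.2 ⟨p, hp, q, hq, rfl⟩⟩)),
    Finset.sum_biUnion (fun i hi j hj => hdisj i hi j hj)]
  refine Finset.sum_congr rfl fun i _ => ?_
  rw [Finset.sum_congr rfl fun y hy => show mackeySum P Q θ η y = mackeySum P Q θ η (r i) by
    obtain ⟨p, hp, q, hq, rfl⟩ := mem_cell.1 hy
    exact mackeySum_mul hθ hη (r i) ⟨p, hp⟩ ⟨q, hq⟩]
  rw [Finset.sum_const, nsmul_eq_mul, mackeyMean,
    ← Nat.cast_mul, ← card_cell_mul P Q (r i), Nat.cast_mul]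
  have : (interCard P Q (r i) : ℂ) ≠ 0 := Nat.cast_ne_zero.2 (interCard_pos _).ne'
  field_simp

/-- A Mackey term vanishes when averaging over elements of `P ∩ x Q x⁻¹` kills the integrand. -/
theorem mackeySum_eq_zero {x : G} {V : Type*} [Fintype V] [Nonempty V] (v : V → G)
    (hv : ∀ a, v a ∈ P ∧ x⁻¹ * v a * x ∈ Q)
    (h : ∀ g, g ∈ P → x⁻¹ * g * x ∈ Q → ∑ a, mackeyFun P Q θ η x (g * v a) = 0) :
    mackeySum P Q θ η x = 0 := by
  classical
  have key : (Fintype.card V : ℂ) * mackeySum P Q θ η x =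
      ∑ g : G, ∑ a, mackeyFun P Q θ η x (g * v a) := by
    rw [Finset.sum_comm, ← nsmul_eq_mul, ← Finset.card_univ, ← Finset.sum_const]
    exact Finset.sum_congr rfl fun a _ =>
      (Fintype.sum_equiv (Equiv.mulRight (v a)) _ _ fun g => rfl).symm
  rw [Finset.sum_eq_zero] at key
  · exact (mul_eq_zero.1 key).resolve_left (Nat.cast_ne_zero.2 Fintype.card_ne_zero)
  · intro g _
    by_cases hg : g ∈ P ∧ x⁻¹ * g * x ∈ Q
    · exact h g hg.1 hg.2
    refine Finset.sum_eq_zero fun a _ => mackeyFun_eq_zero fun h' => hg ⟨?_, ?_⟩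
    · have := P.mul_mem h'.1 (P.inv_mem (hv a).1)
      simpa using this
    · have := Q.mul_mem h'.2 (Q.inv_mem (hv a).2)
      rw [show x⁻¹ * (g * v a) * x * (x⁻¹ * v a * x)⁻¹ = x⁻¹ * g * x by group] at this
      exact this

/-- Summing a function pulled back along a surjective homomorphism. -/
theorem sum_comp_surjective {A B : Type*} [Group A] [Fintype A] [Group B] [Fintype B] (φ : A →* B)
    (hφ : Function.Surjective φ) (f : B → ℂ) :
    (Fintype.card B : ℂ) * ∑ a, f (φ a) = (Fintype.card A : ℂ) * ∑ b, f b := by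
  classical
  have hfib : ∀ b, (Finset.univ.filter fun a => φ a = b).card =
      (Finset.univ.filter fun a => φ a = 1).card := fun b => by
    obtain ⟨a0, rfl⟩ := hφ b
    refine Finset.card_equiv (Equiv.mulLeft a0⁻¹) fun a => ?_
    simp only [Finset.mem_filter, Finset.mem_univ, true_and, Equiv.coe_mulLeft, map_mul, map_inv,
      inv_mul_eq_one]
    exact eq_comm
  set N := (Finset.univ.filter fun a => φ a = 1).card with hN
  have hsum : ∑ a, f (φ a) = (N : ℂ) * ∑ b, f b := by
    rw [← Finset.sum_fiberwise_of_maps_to (t := Finset.univ) (g := φ) (fun a _ => Finset.mem_univ _),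
      Finset.mul_sum]
    refine Finset.sum_congr rfl fun b _ => ?_
    rw [Finset.sum_congr rfl fun a ha => by rw [(Finset.mem_filter.1 ha).2], Finset.sum_const,
      nsmul_eq_mul, hfib b]
  have hcard : Fintype.card A = Fintype.card B * N := by
    rw [← Finset.card_univ, Finset.card_eq_sum_card_fiberwise (t := Finset.univ) (f := φ)
      (fun a _ => Finset.mem_univ _), Finset.sum_congr rfl fun b _ => hfib b, Finset.sum_const,
      smul_eq_mul, Finset.card_univ]
  rw [hsum, hcard, Nat.cast_mul]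
  ring

/-- If a character sums to zero over a subgroup, it does so over each coset. -/
theorem sum_coset_eq_zero {χ : G → ℂ} (hχ : IsCharacter G χ) (R : Subgroup G) [Fintype R]
    (h : ∑ r : R, χ r = 0) (g : G) : ∑ r : R, χ (g * r) = 0 := by
  obtain ⟨n, ρ, rfl⟩ := hχ
  set S : Module.End ℂ (Fin n → ℂ) := ∑ r : R, ρ r with hS
  have hSS : S * S = (Fintype.card R : ℂ) • S := by
    rw [hS, Finset.sum_mul]
    rw [Nat.cast_smul_eq_nsmul, ← Finset.card_univ, ← Finset.sum_const]
    refine Finset.sum_congr rfl fun a _ => ?_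
    rw [Finset.mul_sum]
    exact Fintype.sum_equiv (Equiv.mulLeft a) _ _ fun b => (map_mul ρ (a : G) b).symm
  have hc : (Fintype.card R : ℂ) ≠ 0 := Nat.cast_ne_zero.2 Fintype.card_ne_zero
  set e : Module.End ℂ (Fin n → ℂ) := (Fintype.card R : ℂ)⁻¹ • S with he
  have hee : e * e = e := by
    rw [he, smul_mul_assoc, mul_smul_comm, hSS, smul_smul (Fintype.card R : ℂ)⁻¹ (Fintype.card R : ℂ),
      inv_mul_cancel₀ hc, one_smul]
  have htrS : LinearMap.trace ℂ _ S = 0 := by
    rw [hS, map_sum]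
    exact h
  have htr : LinearMap.trace ℂ _ e = 0 := by rw [he, map_smul, htrS, smul_zero]
  have hproj : LinearMap.IsProj (LinearMap.range e) e := by
    refine ⟨fun x => LinearMap.mem_range_self e x, fun x hx => ?_⟩
    obtain ⟨y, rfl⟩ := hx
    exact LinearMap.congr_fun hee y
  rw [hproj.trace] at htr
  have he0 : e = 0 := by
    rw [← LinearMap.range_eq_bot]
    exact Submodule.finrank_eq_zero.1 (by exact_mod_cast htr)
  have hS0 : S = 0 := (smul_eq_zero.1 he0).resolve_left (inv_ne_zero hc)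
  have : ∑ r : R, ρ.character (g * r) = LinearMap.trace ℂ _ (ρ g * S) := by
    rw [hS, Finset.mul_sum, map_sum]
    exact Finset.sum_congr rfl fun r _ => by rw [Representation.character, map_mul]
  rw [this, hS0, mul_zero, map_zero]

section Pi

variable {ι : Type*} [Fintype ι] {H : ι → Type*} [∀ i, Group (H i)] [∀ i, Fintype (H i)]

/-- The product of irreducible characters of the factors. -/
noncomputable def piChar (c : ∀ i, IrrCharacter (H i)) : (∀ i, H i) → ℂ :=
  fun g => ∏ i, (c i : H i → ℂ) (g i)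

theorem isCharacter_piChar (c : ∀ i, IrrCharacter (H i)) : IsCharacter (∀ i, H i) (piChar c) := by
  have : piChar c = ∏ i : ι, (fun g : ∀ j, H j => (c i : H i → ℂ) (g i)) := by
    funext g
    simp [piChar]
  rw [this]
  exact Finset.prod_induction _ (IsCharacter _) (fun _ _ => CharCore.isCharacter_mul)
    CharCore.isCharacter_one
    fun i _ => CharCore.isCharacter_comp (CharCore.irr_isCharacter (c i)) (Pi.evalMonoidHom H i)

theorem classInner_piChar [DecidableEq ι] (c c' : ∀ i, IrrCharacter (H i)) :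
    classInner (piChar c) (piChar c') = ∏ i, classInner (c i : H i → ℂ) (c' i) := by
  unfold classInner piChar
  simp only [map_prod, ← Finset.prod_mul_distrib]
  rw [← Fintype.prod_sum fun i (x : H i) => (c i : H i → ℂ) x * conj ((c' i : H i → ℂ) x),
    Nat.card_pi, Nat.cast_prod, ← Finset.prod_inv_distrib, Finset.prod_mul_distrib]

/-- The irreducible character of a product given by irreducible characters of the factors. -/
noncomputable def piIrr (c : ∀ i, IrrCharacter (H i)) : IrrCharacter (∀ i, H i) :=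
  ⟨piChar c, by
    classical
    rw [CharCore.isIrrCharacter_iff]
    refine ⟨isCharacter_piChar c, ?_⟩
    rw [classInner_piChar]
    exact Finset.prod_eq_one fun i _ => CharCore.classInner_irr_self _⟩

theorem piIrr_injective : Function.Injective (piIrr (H := H)) := by
  classical
  intro c c' h
  have h1 : classInner (piChar c) (piChar c') = 1 := by
    rw [show piChar c = piChar c' from congrArg Subtype.val h]
    exact CharCore.classInner_irr_self (piIrr c')
  rw [classInner_piChar] at h1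
  funext i
  by_contra hne
  rw [Finset.prod_eq_zero (Finset.mem_univ i) (CharCore.classInner_irr_of_ne hne)] at h1
  exact zero_ne_one h1

theorem card_conjClasses_pi :
    Nat.card (ConjClasses (∀ i, H i)) = ∏ i, Nat.card (ConjClasses (H i)) := by
  rw [← Nat.card_pi]
  refine Nat.card_eq_of_bijective (fun c i => ConjClasses.map (Pi.evalMonoidHom H i) c) ⟨?_, ?_⟩
  · intro a b hab
    obtain ⟨a, rfl⟩ := ConjClasses.mk_surjective a
    obtain ⟨b, rfl⟩ := ConjClasses.mk_surjective b
    rw [ConjClasses.mk_eq_mk_iff_isConj, isConj_iff]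
    have hi : ∀ i, ∃ c : H i, c * a i * c⁻¹ = b i := fun i =>
      isConj_iff.1 (ConjClasses.mk_eq_mk_iff_isConj.1 (congrFun hab i))
    choose c hc using hi
    exact ⟨c, funext hc⟩
  · intro f
    choose g hg using fun i => ConjClasses.mk_surjective (f i)
    exact ⟨ConjClasses.mk g, funext hg⟩

theorem piIrr_surjective : Function.Surjective (piIrr (H := H)) :=
  ((Nat.bijective_iff_injective_and_card _).2 ⟨piIrr_injective, by
    rw [Nat.card_pi, CharCore.card_irr, card_conjClasses_pi]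
    exact Finset.prod_congr rfl fun i _ => CharCore.card_irr⟩).2

/-- A class function on a product with a nonzero value has a nonzero coefficient. -/
theorem exists_classInner_piChar_ne_zero [DecidableEq ι] {f : (∀ i, H i) → ℂ} (hf : IsClassFunction _ f)
    (hne : f ≠ 0) : ∃ c, classInner f (piChar c) ≠ 0 := by
  classical
  by_contra hcon
  simp only [not_exists, not_not] at hcon
  refine hne (CharCore.eq_zero_of_classInner_irr_eq_zero hf fun χ => ?_)
  obtain ⟨c, rfl⟩ := piIrr_surjective χ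
  exact hcon c

theorem eq_sum_piChar [DecidableEq ι] {f : (∀ i, H i) → ℂ} (hf : IsClassFunction _ f) :
    f = ∑ c, classInner f (piChar c) • piChar c := by
  classical
  conv_lhs => rw [CharCore.eq_sum_classInner hf]
  exact (Fintype.sum_bijective piIrr ⟨piIrr_injective, piIrr_surjective⟩ _ _ fun c => rfl).symm

end Pi

end Cfsg.Agent.GLCusp57
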