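import Cfsg.Agent.GLFlag.Bruhat
import Cfsg.Agent.GLCusp57.Mackey

/-! Unitriangular matrices, corners, monomial matrices and cuspidal characters of `GL_n(q)`. -/

set_option autoImplicit false
set_option linter.unusedSectionVars false

open Matrix
open scoped MatrixGroups ComplexConjugate
open Cfsg

namespace Cfsg.Agent.GLCusp57

open Cfsg.Agent.GLFlag (permMat permGL)

theorem inv_mem_of_mul_mem {G : Type*} [Group G] [Finite G] {s : Set G} (h1 : (1 : G) ∈ s)
    (hmul : ∀ a b, a ∈ s → b ∈ s → a * b ∈ s) {g : G} (hg : g ∈ s) : g⁻¹ ∈ s := by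
  have h : g ^ (orderOf g - 1) = g⁻¹ := by
    refine eq_inv_of_mul_eq_one_left ?_
    rw [← pow_succ, Nat.sub_add_cancel (orderOf_pos g), pow_orderOf_eq_one]
  rw [← h]
  induction orderOf g - 1 with
  | zero => simpa using h1
  | succ k ih => rw [pow_succ]; exact hmul _ _ ih hg

variable {F : Type*} [Field F] [Fintype F] [DecidableEq F] {n : ℕ}

/-- A subgroup of a finite general linear group from a condition closed under products. -/
def subgroupOfMul (s : Set (GL (Fin n) F)) (h1 : (1 : GL (Fin n) F) ∈ s)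
    (hmul : ∀ a b, a ∈ s → b ∈ s → a * b ∈ s) : Subgroup (GL (Fin n) F) where
  carrier := s
  mul_mem' := fun {a b} ha hb => hmul a b ha hb
  one_mem' := h1
  inv_mem' := fun {_} hg => inv_mem_of_mul_mem h1 hmul hg

/-- The abelian unipotent group of matrices equal to the identity outside `C × Cᶜ`. -/
def corner (F : Type*) [Field F] [Fintype F] [DecidableEq F] {n : ℕ} (C : Finset (Fin n)) :
    Subgroup (GL (Fin n) F) :=
  subgroupOfMul {g | ∀ i j, ¬(i ∈ C ∧ j ∉ C) →
      (g : Matrix (Fin n) (Fin n) F) i j = (1 : Matrix (Fin n) (Fin n) F) i j}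
    (fun i j _ => by simp) (fun a b ha hb i j hij => by
      rw [Units.val_mul, Matrix.mul_apply]
      rw [Finset.sum_eq_single i]
      · rw [ha i i (fun h => h.2 h.1), Matrix.one_apply_eq, one_mul, hb i j hij]
      · intro k _ hk
        by_cases h : i ∈ C ∧ k ∉ C
        · rw [hb k j (fun h' => h.2 h'.1)]
          rcases eq_or_ne k j with rfl | hkj
          · exact absurd h hij
          · rw [Matrix.one_apply_ne hkj, mul_zero]
        · rw [ha i k h, Matrix.one_apply_ne hk.symm, zero_mul]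
      · simp)

theorem mem_corner {C : Finset (Fin n)} {g : GL (Fin n) F} :
    g ∈ corner F C ↔ ∀ i j, ¬(i ∈ C ∧ j ∉ C) →
      (g : Matrix (Fin n) (Fin n) F) i j = (1 : Matrix (Fin n) (Fin n) F) i j :=
  Iff.rfl

/-- The indices below `m`. -/
def stdCorner (n m : ℕ) : Finset (Fin n) := Finset.univ.filter fun i => i.val < m

@[simp] theorem mem_stdCorner {m : ℕ} {i : Fin n} : i ∈ stdCorner n m ↔ i.val < m := by
  simp [stdCorner]

open Classical in
/-- No principal constituent on the radical of any maximal standard parabolic subgroup. -/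
def IsCusp (χ : GL (Fin n) F → ℂ) : Prop :=
  ∀ m : ℕ, 0 < m → m < n → ∑ v : corner F (stdCorner n m), χ v = 0

theorem permGL_mul_apply (σ : Equiv.Perm (Fin n)) (M : Matrix (Fin n) (Fin n) F) (i j : Fin n) :
    ((permGL F σ : Matrix (Fin n) (Fin n) F) * M) i j = M (σ⁻¹ i) j := by
  rw [Matrix.mul_apply, Finset.sum_eq_single (σ⁻¹ i)]
  · simp
  · intro k _ hk
    simp only [GLFlag.coe_permGL, GLFlag.permMat_apply]
    rw [if_neg, zero_mul]
    rintro rfl
    exact hk (by simp)
  · simp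

theorem mul_permGL_apply (σ : Equiv.Perm (Fin n)) (M : Matrix (Fin n) (Fin n) F) (i j : Fin n) :
    (M * (permGL F σ : Matrix (Fin n) (Fin n) F)) i j = M i (σ j) := by
  rw [Matrix.mul_apply, Finset.sum_eq_single (σ j)]
  · simp
  · intro k _ hk
    simp only [GLFlag.coe_permGL, GLFlag.permMat_apply]
    rw [if_neg (fun h => hk h.symm), mul_zero]
  · simp

theorem permGL_conj_apply (σ : Equiv.Perm (Fin n)) (g : GL (Fin n) F) (i j : Fin n) :
    ((permGL F σ * g * (permGL F σ)⁻¹ : GL (Fin n) F) : Matrix (Fin n) (Fin n) F) i j =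
      (g : Matrix (Fin n) (Fin n) F) (σ⁻¹ i) (σ⁻¹ j) := by
  rw [← map_inv, Units.val_mul, Units.val_mul, mul_permGL_apply, permGL_mul_apply]

theorem IsCusp.sum_corner {χ : GL (Fin n) F → ℂ} (hc : IsCusp χ) (hχ : IsCharacter _ χ)
    {C : Finset (Fin n)} [Fintype (corner F C)] (hne : C.Nonempty) (hne' : C ≠ Finset.univ)
    (g : GL (Fin n) F) : ∑ v : corner F C, χ (g * v) = 0 := by
  classical
  refine sum_coset_eq_zero hχ _ ?_ g
  set m := C.card with hm
  have hmn : m < n := by
    simpa [hm] using Finset.card_lt_univ_of_notMem (x := (Finset.univ \ C).min' (by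
      rwa [Finset.sdiff_nonempty, Finset.univ_subset_iff]))
      (Finset.mem_sdiff.1 (Finset.min'_mem _ _)).2
  have hcard : (stdCorner n m).card = m := by
    rw [stdCorner, Finset.card_filter]
    rw [Fin.sum_univ_eq_sum_range (fun i => if i < m then 1 else 0) n, ← Finset.card_filter]
    rw [show (Finset.range n).filter (· < m) = Finset.range m by ext; simp; omega,
      Finset.card_range]
  have hex : ∃ σ : Equiv.Perm (Fin n), ∀ i, σ i ∈ C ↔ i ∈ stdCorner n m := by
    let e : {i // i ∈ stdCorner n m} ≃ {i // i ∈ C} := Finset.equivOfCardEq (by rw [hcard])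
    refine ⟨e.extendSubtype, fun i => ⟨fun h => ?_, fun h => e.extendSubtype_mem i h⟩⟩
    by_contra hi
    exact e.extendSubtype_not_mem i hi h
  obtain ⟨σ, hσ⟩ := hex
  rw [← hc m (Finset.card_pos.2 hne) hmn]
  have h1 : ∀ v : GL (Fin n) F, v ∈ corner F (stdCorner n m) →
      permGL F σ * v * (permGL F σ)⁻¹ ∈ corner F C := by
    intro v hv i j hij
    rw [permGL_conj_apply, hv _ _ (fun h => hij ⟨?_, ?_⟩)]
    · simp [Matrix.one_apply]
    · simpa using (hσ _).2 h.1
    · intro h'; exact h.2 ((hσ _).1 (by simpa using h'))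
  have h2 : ∀ v : GL (Fin n) F, v ∈ corner F C →
      (permGL F σ)⁻¹ * v * permGL F σ ∈ corner F (stdCorner n m) := by
    intro v hv i j hij
    have e := permGL_conj_apply σ⁻¹ v i j
    rw [map_inv, inv_inv, inv_inv] at e
    rw [e, hv _ _ (fun h => hij ⟨(hσ _).1 h.1, fun h' => h.2 ((hσ _).2 h')⟩)]
    simp [Matrix.one_apply]
  symm
  refine Fintype.sum_equiv
    { toFun := fun v => ⟨_, h1 v.1 v.2⟩
      invFun := fun v => ⟨_, h2 v.1 v.2⟩
      left_inv := fun v => Subtype.ext
        (show (permGL F σ)⁻¹ * (permGL F σ * v.1 * (permGL F σ)⁻¹) * permGL F σ = v.1 by group)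
      right_inv := fun v => Subtype.ext
        (show permGL F σ * ((permGL F σ)⁻¹ * v.1 * permGL F σ) * (permGL F σ)⁻¹ = v.1 by group) }
    _ _ fun v => ?_
  exact ((CharInd.isClassFunction_of_isCharacter hχ) _ _).symm

/-- Upper unitriangular matrices. -/
def unitri (n : ℕ) (F : Type*) [Field F] [Fintype F] [DecidableEq F] : Subgroup (GL (Fin n) F) :=
  subgroupOfMul {g | ∀ i j, j ≤ i →
      (g : Matrix (Fin n) (Fin n) F) i j = (1 : Matrix (Fin n) (Fin n) F) i j}
    (fun i j _ => by simp) (fun a b ha hb i j hij => by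
      rw [Units.val_mul, Matrix.mul_apply]
      rw [Finset.sum_eq_single i]
      · rw [ha i i le_rfl, Matrix.one_apply_eq, one_mul, hb i j hij]
      · intro k _ hk
        rcases le_total k i with h | h
        · rw [ha i k h, Matrix.one_apply_ne hk.symm, zero_mul]
        · rw [hb k j (hij.trans h), Matrix.one_apply_ne, mul_zero]
          intro e; subst e; exact hk (le_antisymm hij h)
      · simp)

theorem mem_unitri {g : GL (Fin n) F} : g ∈ unitri n F ↔ ∀ i j, j ≤ i →
    (g : Matrix (Fin n) (Fin n) F) i j = (1 : Matrix (Fin n) (Fin n) F) i j :=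
  Iff.rfl

/-- The sum of the entries just above the diagonal. -/
def superSum (M : Matrix (Fin n) (Fin n) F) : F :=
  ∑ i : Fin n, if h : i.val + 1 < n then M i ⟨i.val + 1, h⟩ else 0

theorem unitri_mul_apply_succ {g h : GL (Fin n) F} (hg : g ∈ unitri n F) (hh : h ∈ unitri n F)
    (i : Fin n) (hi : i.val + 1 < n) :
    ((g * h : GL (Fin n) F) : Matrix (Fin n) (Fin n) F) i ⟨i + 1, hi⟩ =
      (g : Matrix (Fin n) (Fin n) F) i ⟨i + 1, hi⟩ + (h : Matrix (Fin n) (Fin n) F) i ⟨i + 1, hi⟩ := by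
  set j : Fin n := ⟨i + 1, hi⟩ with hj
  have hij : i ≠ j := by simp [hj, Fin.ext_iff]
  rw [Units.val_mul, Matrix.mul_apply, Finset.sum_eq_add i j hij, hg i i le_rfl, hh j j le_rfl]
  · simp [add_comm]
  · intro k _ hk
    rcases le_or_gt k i with h' | h'
    · rw [hg i k h', Matrix.one_apply_ne hk.1.symm, zero_mul]
    · rw [hh k j (by rw [hj, Fin.le_def]; exact Nat.succ_le_of_lt h'), Matrix.one_apply_ne hk.2,
        mul_zero]
  · simp
  · simp

theorem superSum_mul {g h : GL (Fin n) F} (hg : g ∈ unitri n F) (hh : h ∈ unitri n F) :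
    superSum ((g * h : GL (Fin n) F) : Matrix (Fin n) (Fin n) F) =
      superSum (g : Matrix (Fin n) (Fin n) F) + superSum (h : Matrix (Fin n) (Fin n) F) := by
  rw [superSum, superSum, superSum, ← Finset.sum_add_distrib]
  refine Finset.sum_congr rfl fun i _ => ?_
  split_ifs with hi
  · exact unitri_mul_apply_succ hg hh i hi
  · simp

/-- A non-degenerate linear character of the unitriangular group. -/
noncomputable def psiU (ψ : AddChar F ℂ) (g : GL (Fin n) F) : ℂ :=
  ψ (superSum (g : Matrix (Fin n) (Fin n) F))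

theorem psiU_mul (ψ : AddChar F ℂ) {g h : GL (Fin n) F} (hg : g ∈ unitri n F)
    (hh : h ∈ unitri n F) : psiU ψ (g * h) = psiU ψ g * psiU ψ h := by
  rw [psiU, psiU, psiU, superSum_mul hg hh, AddChar.map_add_eq_mul]

theorem psiU_one (ψ : AddChar F ℂ) : psiU ψ (1 : GL (Fin n) F) = 1 := by
  rw [psiU]
  convert AddChar.map_zero_eq_one ψ
  refine Finset.sum_eq_zero fun i _ => ?_
  split_ifs with h
  · simp [Fin.ext_iff]
  · rfl

theorem conj_addChar (ψ : AddChar F ℂ) (a : F) : conj (ψ a) = ψ (-a) := by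
  rw [AddChar.map_neg_eq_inv, Complex.inv_eq_conj]
  exact AddChar.norm_apply ψ a

theorem addChar_mul_conj (ψ : AddChar F ℂ) (a : F) : ψ a * conj (ψ a) = 1 := by
  rw [conj_addChar, ← AddChar.map_add_eq_mul, add_neg_cancel, AddChar.map_zero_eq_one]

theorem exists_addChar_ne_one (F : Type*) [Field F] [Fintype F] :
    ∃ ψ : AddChar F ℂ, ψ ≠ 1 := by
  obtain ⟨ψ, hψ⟩ := AddChar.exists_apply_ne_zero.2 (one_ne_zero : (1 : F) ≠ 0)
  exact ⟨ψ, fun h => hψ (by rw [h, AddChar.one_apply])⟩

/-- Monomial matrices: `t j` at the place `(σ j, j)`. -/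
def monoGL (σ : Equiv.Perm (Fin n)) (t : Fin n → Fˣ) : GL (Fin n) F :=
  permGL F σ * ⟨Matrix.diagonal fun i => (t i : F), Matrix.diagonal fun i => ((t i)⁻¹ : Fˣ),
    by simp [Matrix.diagonal_mul_diagonal],
    by simp [Matrix.diagonal_mul_diagonal]⟩

@[simp] theorem monoGL_apply (σ : Equiv.Perm (Fin n)) (t : Fin n → Fˣ) (i j : Fin n) :
    (monoGL σ t : Matrix (Fin n) (Fin n) F) i j = if σ j = i then (t j : F) else 0 := by
  rw [monoGL, Units.val_mul, Matrix.mul_diagonal]
  simp

theorem monoGL_mul_apply (σ : Equiv.Perm (Fin n)) (t : Fin n → Fˣ) (M : Matrix (Fin n) (Fin n) F)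
    (i j : Fin n) : ((monoGL σ t : Matrix (Fin n) (Fin n) F) * M) (σ i) j = (t i : F) * M i j := by
  rw [Matrix.mul_apply, Finset.sum_eq_single i]
  · simp
  · intro k _ hk
    simp [hk]
  · simp

theorem mul_monoGL_apply (σ : Equiv.Perm (Fin n)) (t : Fin n → Fˣ) (M : Matrix (Fin n) (Fin n) F)
    (i j : Fin n) : (M * (monoGL σ t : Matrix (Fin n) (Fin n) F)) i j = M i (σ j) * (t j : F) := by
  rw [Matrix.mul_apply, Finset.sum_eq_single (σ j)]
  · simp
  · intro k _ hk
    simp [Ne.symm hk]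
  · simp

theorem monoGL_conj_apply (σ : Equiv.Perm (Fin n)) (t : Fin n → Fˣ) (g : GL (Fin n) F)
    (i j : Fin n) :
    (((monoGL σ t)⁻¹ * g * monoGL σ t : GL (Fin n) F) : Matrix (Fin n) (Fin n) F) i j =
      ((t i)⁻¹ : Fˣ) * (g : Matrix (Fin n) (Fin n) F) (σ i) (σ j) * (t j : F) := by
  set M := (((monoGL σ t)⁻¹ * g * monoGL σ t : GL (Fin n) F) : Matrix (Fin n) (Fin n) F) with hM
  have h : (monoGL σ t : Matrix (Fin n) (Fin n) F) * M =
      (g : Matrix (Fin n) (Fin n) F) * (monoGL σ t : Matrix (Fin n) (Fin n) F) := by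
    rw [hM, ← Units.val_mul, ← Units.val_mul, ← mul_assoc, ← mul_assoc, mul_inv_cancel, one_mul]
  have h2 := congrFun (congrFun h (σ i)) j
  rw [monoGL_mul_apply, mul_monoGL_apply] at h2
  rw [mul_assoc, ← h2, ← mul_assoc, Units.inv_mul, one_mul]

/-- Bruhat decomposition with unitriangular factors. -/
theorem exists_unitri_mono_unitri (g : GL (Fin n) F) :
    ∃ σ t, ∃ u₁ ∈ unitri n F, ∃ u₂ ∈ unitri n F, g = u₁ * monoGL σ t * u₂ := by
  obtain ⟨σ, b₁, hb₁, b₂, hb₂, rfl⟩ := GLFlag.exists_bruhat g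
  have key : ∀ b : GL (Fin n) F, b ∈ Cfsg.upperTriangularGL n F →
      ∃ t : Fin n → Fˣ, b * (monoGL 1 t)⁻¹ ∈ unitri n F ∧ (monoGL 1 t)⁻¹ * b ∈ unitri n F := by
    intro b hb
    have hd : ∀ i, (b : Matrix (Fin n) (Fin n) F) i i ≠ 0 := by
      have h := b.det.ne_zero
      rw [Matrix.GeneralLinearGroup.val_det_apply, Matrix.det_of_isUpperTriangular hb] at h
      exact fun i => Finset.prod_ne_zero_iff.1 h i (Finset.mem_univ i)
    refine ⟨fun i => Units.mk0 _ (hd i), fun i j hji => ?_, fun i j hji => ?_⟩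
    · have h2 := mul_monoGL_apply 1 (fun i => Units.mk0 _ (hd i))
        ((b * (monoGL 1 fun i => Units.mk0 _ (hd i))⁻¹ : GL (Fin n) F) : Matrix (Fin n) (Fin n) F) i j
      rw [← Units.val_mul, inv_mul_cancel_right] at h2
      simp only [Equiv.Perm.one_apply, Units.val_mk0] at h2
      rcases hji.lt_or_eq with hlt | rfl
      · rw [hb hlt, eq_comm, mul_eq_zero] at h2
        rw [Matrix.one_apply_ne hlt.ne', h2.resolve_right (hd j)]
      · rw [Matrix.one_apply_eq]
        exact (mul_eq_right₀ (hd j)).1 h2.symm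
    · have h2 := monoGL_mul_apply 1 (fun i => Units.mk0 _ (hd i))
        (((monoGL 1 fun i => Units.mk0 _ (hd i))⁻¹ * b : GL (Fin n) F) : Matrix (Fin n) (Fin n) F) i j
      rw [← Units.val_mul, mul_inv_cancel_left] at h2
      simp only [Equiv.Perm.one_apply, Units.val_mk0] at h2
      rcases hji.lt_or_eq with hlt | rfl
      · rw [hb hlt, eq_comm, mul_eq_zero] at h2
        rw [Matrix.one_apply_ne hlt.ne', h2.resolve_left (hd i)]
      · rw [Matrix.one_apply_eq]
        exact (mul_eq_left₀ (hd j)).1 h2.symm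
  obtain ⟨t₁, h₁, -⟩ := key b₁ hb₁
  obtain ⟨t₂, -, h₂⟩ := key b₂ hb₂
  refine ⟨σ, fun i => t₁ (σ i) * t₂ i, _, h₁, _, h₂, ?_⟩
  have e : monoGL (F := F) σ (fun i => t₁ (σ i) * t₂ i) = monoGL 1 t₁ * permGL F σ * monoGL 1 t₂ := by
    apply Units.ext
    ext i j
    simp only [monoGL_apply, Units.val_mul, mul_monoGL_apply, mul_permGL_apply,
      Equiv.Perm.one_apply]
    by_cases h : σ j = i <;> simp [h]
  rw [e]
  group

end Cfsg.Agent.GLCusp57
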