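import Cfsg.Agent.GLCusp57.GelfandGraev

/-! Parabolic subgroups attached to labelled blocks of coordinates, and induced characters. -/

set_option autoImplicit false
set_option linter.unusedSectionVars false

open Matrix
open scoped MatrixGroups ComplexConjugate
open Cfsg

namespace Cfsg.Agent.GLCusp57

/-- A partition of the coordinates into `k` ordered, numbered, non-empty blocks. -/
structure Blocks (n : ℕ) where
  k : ℕ
  d : Fin k → ℕ
  d_pos : ∀ a, 0 < d a
  e : Fin n ≃ Σ a : Fin k, Fin (d a)

namespace Blocks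

variable {n : ℕ} (B : Blocks n)

/-- The label of a coordinate. -/
def lab (i : Fin n) : Fin B.k := (B.e i).1

/-- The coordinate numbered `r` in block `a`. -/
def pos (a : Fin B.k) (r : Fin (B.d a)) : Fin n := B.e.symm ⟨a, r⟩

@[simp] theorem lab_pos (a : Fin B.k) (r : Fin (B.d a)) : B.lab (B.pos a r) = a := by
  simp [lab, pos]

theorem e_pos (a : Fin B.k) (r : Fin (B.d a)) : B.e (B.pos a r) = ⟨a, r⟩ := B.e.apply_symm_apply _

theorem pos_inj {a : Fin B.k} {r s : Fin (B.d a)} : B.pos a r = B.pos a s ↔ r = s :=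
  ⟨fun h => eq_of_heq (Sigma.mk.inj_iff.1 (B.e.symm.injective h)).2, fun h => h ▸ rfl⟩

theorem exists_pos (i : Fin n) : ∃ a r, B.pos a r = i :=
  ⟨_, _, B.e.symm_apply_apply i⟩

theorem exists_pos' {i : Fin n} {a : Fin B.k} (h : B.lab i = a) : ∃ r, B.pos a r = i := by
  subst h
  exact ⟨_, B.e.symm_apply_apply i⟩

theorem sum_d : ∑ a, B.d a = n := by
  simpa using (Fintype.card_congr B.e).symm

theorem k_le : B.k ≤ n := by
  calc B.k = ∑ _a : Fin B.k, 1 := by simp
    _ ≤ ∑ a, B.d a := Finset.sum_le_sum fun a _ => B.d_pos a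
    _ = n := B.sum_d

/-- An enumeration of the coordinates, block after block. -/
def sortEquiv : Equiv.Perm (Fin n) :=
  ((finCongr B.sum_d.symm).trans finSigmaFinEquiv.symm).trans B.e.symm

theorem finSigma_fst_le {k : ℕ} {d : Fin k → ℕ} {x y : Σ a : Fin k, Fin (d a)}
    (h : x.1 < y.1) : finSigmaFinEquiv x < finSigmaFinEquiv y := by
  rw [Fin.lt_def, finSigmaFinEquiv_apply, finSigmaFinEquiv_apply]
  obtain ⟨a, r⟩ := x
  obtain ⟨b, s⟩ := y
  have hab : a.val + 1 ≤ b.val := Fin.lt_def.1 h
  dsimp only
  let f : ℕ → ℕ := fun i => if hi : i < k then d ⟨i, hi⟩ else 0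
  have hsum : ∀ c : Fin k, ∑ j : Fin c.val, d (Fin.castLE c.isLt.le j) =
      ∑ j ∈ Finset.range c.val, f j := fun c => by
    rw [← Fin.sum_univ_eq_sum_range]
    refine Finset.sum_congr rfl fun j _ => ?_
    simp only [f]
    rw [dif_pos (lt_trans j.isLt c.isLt)]
    rfl
  rw [hsum a, hsum b]
  have h1 : ∑ j ∈ Finset.range (a.val + 1), f j ≤ ∑ j ∈ Finset.range b.val, f j :=
    Finset.sum_le_sum_of_subset (Finset.range_subset_range.2 hab)
  rw [Finset.sum_range_succ] at h1
  have h2 : f a.val = d a := by simp [f, a.isLt]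
  have := r.isLt
  omega

theorem monotone_lab_sortEquiv : Monotone (B.lab ∘ B.sortEquiv) := by
  intro i j hij
  by_contra hlt
  rw [not_le] at hlt
  simp only [Function.comp, lab, sortEquiv, Equiv.trans_apply, Equiv.apply_symm_apply] at hlt
  have := finSigma_fst_le hlt
  simp only [Equiv.apply_symm_apply, Fin.lt_def, finCongr_apply, Fin.val_cast] at this
  exact not_lt.2 (Fin.le_def.1 hij) this

variable (F : Type*) [Field F] [Fintype F] [DecidableEq F]

/-- The parabolic subgroup of the ordered blocks. -/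
def para : Subgroup (GL (Fin n) F) :=
  subgroupOfMul {g | ∀ i j, B.lab j < B.lab i → (g : Matrix (Fin n) (Fin n) F) i j = 0}
    (fun i j h => by
      rw [Units.val_one, Matrix.one_apply_ne]
      rintro rfl
      exact lt_irrefl _ h) (fun a b ha hb i j h => by
      rw [Units.val_mul, Matrix.mul_apply]
      refine Finset.sum_eq_zero fun k _ => ?_
      rcases lt_or_ge (B.lab k) (B.lab i) with hk | hk
      · rw [ha i k hk, zero_mul]
      · rw [hb k j (h.trans_le hk), mul_zero])

variable {F}

theorem mem_para {g : GL (Fin n) F} : g ∈ B.para F ↔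
    ∀ i j, B.lab j < B.lab i → (g : Matrix (Fin n) (Fin n) F) i j = 0 := Iff.rfl

theorem permGL_mem_para {τ : Equiv.Perm (Fin n)} (h : ∀ i, B.lab (τ i) = B.lab i) :
    GLFlag.permGL F τ ∈ B.para F := by
  intro i j hij
  rw [GLFlag.coe_permGL, GLFlag.permMat_apply, if_neg]
  rintro rfl
  rw [h j] at hij
  exact lt_irrefl _ hij

theorem diag_mem_para (t : Fin n → Fˣ) : monoGL 1 t ∈ B.para F := by
  intro i j hij
  rw [monoGL_apply, if_neg]
  rintro rfl
  exact lt_irrefl _ hij

theorem sortEquiv_conj_mem {b : GL (Fin n) F} (hb : ∀ i j, j < i → (b : Matrix (Fin n) (Fin n) F) i j = 0) :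
    GLFlag.permGL F B.sortEquiv * b * (GLFlag.permGL F B.sortEquiv)⁻¹ ∈ B.para F := by
  intro i j hij
  rw [permGL_conj_apply]
  refine hb _ _ ?_
  by_contra hle
  have := B.monotone_lab_sortEquiv (not_lt.1 hle)
  simp only [Function.comp, Equiv.Perm.coe_inv, Equiv.apply_symm_apply] at this
  exact not_lt.2 this hij

/-- The block on the diagonal numbered `a`. -/
def blockMat (g : Matrix (Fin n) (Fin n) F) (a : Fin B.k) : Matrix (Fin (B.d a)) (Fin (B.d a)) F :=
  g.submatrix (B.pos a) (B.pos a)

/-- Projection of the parabolic subgroup on one diagonal block. -/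
def projOne (a : Fin B.k) : B.para F →* GL (Fin (B.d a)) F :=
  MonoidHom.toHomUnits
    { toFun := fun g => B.blockMat ((g : GL (Fin n) F) : Matrix (Fin n) (Fin n) F) a
      map_one' := by
        ext r s
        simp [blockMat, Matrix.one_apply, B.pos_inj]
      map_mul' := fun g h => by
        ext r s
        show ((g.1 * h.1 : GL (Fin n) F) : Matrix (Fin n) (Fin n) F) (B.pos a r) (B.pos a s) = _
        rw [Units.val_mul, Matrix.mul_apply, Matrix.mul_apply, ← Equiv.sum_comp B.e.symm]
        rw [Fintype.sum_sigma, Finset.sum_eq_single a]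
        · rfl
        · intro b _ hb
          refine Finset.sum_eq_zero fun t _ => ?_
          rcases lt_or_gt_of_ne hb with hlt | hlt
          · rw [g.2 _ _ (by simpa [lab, pos] using hlt), zero_mul]
          · rw [h.2 _ _ (by simpa [lab, pos] using hlt), mul_zero]
        · simp }

/-- Projection on the Levi factor. -/
def proj : B.para F →* ∀ a, GL (Fin (B.d a)) F := MonoidHom.pi B.projOne

theorem proj_apply (g : B.para F) (a : Fin B.k) (r s : Fin (B.d a)) :
    (B.proj g a : Matrix (Fin (B.d a)) (Fin (B.d a)) F) r s =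
      ((g : GL (Fin n) F) : Matrix (Fin n) (Fin n) F) (B.pos a r) (B.pos a s) := rfl

/-- The block diagonal matrices. -/
def levHom : (∀ a, GL (Fin (B.d a)) F) →* GL (Fin n) F :=
  MonoidHom.toHomUnits
    { toFun := fun m => (Matrix.blockDiagonal' fun a => (m a : Matrix (Fin (B.d a)) (Fin (B.d a)) F)).submatrix B.e B.e
      map_one' := by
        ext i j
        simp only [Pi.one_apply, Units.val_one, Matrix.submatrix_apply]
        rw [show (fun a : Fin B.k => (1 : Matrix (Fin (B.d a)) (Fin (B.d a)) F)) = 1 from rfl,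
          Matrix.blockDiagonal'_one, Matrix.one_apply, Matrix.one_apply]
        simp
      map_mul' := fun m m' => by
        rw [Matrix.submatrix_mul_equiv, ← Matrix.blockDiagonal'_mul]
        rfl }

theorem levHom_apply (m : ∀ a, GL (Fin (B.d a)) F) (i j : Fin n) :
    (B.levHom m : Matrix (Fin n) (Fin n) F) i j =
      Matrix.blockDiagonal' (fun a => (m a : Matrix (Fin (B.d a)) (Fin (B.d a)) F)) (B.e i) (B.e j) :=
  rfl

theorem levHom_apply_pos (m : ∀ a, GL (Fin (B.d a)) F) (a : Fin B.k) (r s : Fin (B.d a)) :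
    (B.levHom m : Matrix (Fin n) (Fin n) F) (B.pos a r) (B.pos a s) =
      (m a : Matrix (Fin (B.d a)) (Fin (B.d a)) F) r s := by
  rw [levHom_apply, e_pos, e_pos, Matrix.blockDiagonal'_apply_eq]

theorem levHom_apply_ne (m : ∀ a, GL (Fin (B.d a)) F) {i j : Fin n} (h : B.lab i ≠ B.lab j) :
    (B.levHom m : Matrix (Fin n) (Fin n) F) i j = 0 := by
  rw [levHom_apply]
  obtain ⟨a, r, rfl⟩ := B.exists_pos i
  obtain ⟨b, s, rfl⟩ := B.exists_pos j
  rw [e_pos, e_pos, Matrix.blockDiagonal'_apply_ne]
  simpa using h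

/-- The Levi section. -/
def sec : (∀ a, GL (Fin (B.d a)) F) →* B.para F :=
  B.levHom.codRestrict (B.para F) fun m _ _ h => B.levHom_apply_ne m h.ne'

@[simp] theorem coe_sec (m : ∀ a, GL (Fin (B.d a)) F) : (B.sec m : GL (Fin n) F) = B.levHom m := rfl

theorem proj_sec (m : ∀ a, GL (Fin (B.d a)) F) : B.proj (B.sec m) = m := by
  funext a
  apply Units.ext
  ext r s
  rw [proj_apply, coe_sec, levHom_apply_pos]

theorem proj_surjective : Function.Surjective (B.proj (F := F)) :=
  fun m => ⟨B.sec m, B.proj_sec m⟩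

variable (F) in
/-- A choice of an irreducible character for each block. -/
abbrev Tuple : Type _ := ∀ a, IrrCharacter (GL (Fin (B.d a)) F)

/-- The inflated product character. -/
noncomputable def inflate (c : B.Tuple F) : B.para F → ℂ := fun g => piChar c (B.proj g)

theorem isCharacter_inflate (c : B.Tuple F) : IsCharacter (B.para F) (B.inflate c) :=
  CharCore.isCharacter_comp (isCharacter_piChar c) B.proj

theorem isClassFunction_inflate (c : B.Tuple F) : IsClassFunction (B.para F) (B.inflate c) :=
  CharInd.isClassFunction_of_isCharacter (B.isCharacter_inflate c)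

/-- The parabolically induced character. -/
noncomputable def ind (c : B.Tuple F) : GL (Fin n) F → ℂ := indFun (B.para F) (B.inflate c)

theorem isCharacter_ind (c : B.Tuple F) : IsCharacter _ (B.ind c) :=
  CharInd.isCharacter_indFun _ (B.isCharacter_inflate c)

/-- The blocks of a surjective labelling. -/
noncomputable def ofLabel {k : ℕ} (f : Fin n → Fin k) (hf : Function.Surjective f) : Blocks n where
  k := k
  d a := Fintype.card {i // f i = a}
  d_pos a := Fintype.card_pos_iff.2 ⟨⟨(hf a).choose, (hf a).choose_spec⟩⟩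
  e := (Equiv.sigmaFiberEquiv f).symm.trans (Equiv.sigmaCongrRight fun a => Fintype.equivFin _)

theorem lab_ofLabel {k : ℕ} (f : Fin n → Fin k) (hf : Function.Surjective f) (i : Fin n) :
    (ofLabel f hf).lab i = f i := rfl

end Blocks

end Cfsg.Agent.GLCusp57
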