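import Cfsg.Agent.GLCusp57.Support
import Cfsg.Agent.CrossChar56.SemisimpleClasses

/-! Counting cuspidal characters: their multisets parametrise the generic characters. -/

set_option autoImplicit false
set_option linter.unusedSectionVars false

open Matrix
open scoped MatrixGroups ComplexConjugate
open Cfsg

namespace Cfsg.Agent.GLCusp57

open scoped Classical

universe u

variable {F : Type u} [Field F] [Fintype F] [DecidableEq F] {n : ℕ}

/-- Cuspidal irreducible characters of `GL_d`, for `d` positive. -/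
abbrev CuspChar (F : Type u) [Field F] [Fintype F] [DecidableEq F] (d : ℕ) : Type u :=
  {χ : IrrCharacter (GL (Fin d) F) // 0 < d ∧ IsCusp (χ : GL (Fin d) F → ℂ)}

/-- Monic irreducible polynomials other than `X`. -/
abbrev IrrPoly (F : Type u) [Field F] (d : ℕ) : Type u :=
  {P : Polynomial F // P.Monic ∧ Irreducible P ∧ P.natDegree = d ∧ P.coeff 0 ≠ 0}

/-- Multisets of graded objects of total degree `n`. -/
abbrev Weighted (X : ℕ → Type u) (n : ℕ) : Type u :=
  {s : Multiset (Σ d, X d) // (s.map Sigma.fst).sum = n}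

/-- Multisets of smaller objects of total degree `n`. -/
abbrev WeightedSmall (X : ℕ → Type u) (n : ℕ) : Type u :=
  {s : Multiset (Σ d : Fin n, X d.val) // (s.map fun z => z.1.val).sum = n}

theorem natCard_weighted (X : ℕ → Type u) (hX : IsEmpty (X 0)) (hn : 0 < n)
    [Finite (Weighted X n)] :
    Finite (X n) ∧ Finite (WeightedSmall X n) ∧
      Nat.card (Weighted X n) = Nat.card (X n) + Nat.card (WeightedSmall X n) := by
  let incl : (Σ d : Fin n, X d.val) → (Σ d, X d) := fun z => ⟨z.1.val, z.2⟩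
  have hincl : Function.Injective incl := by
    rintro ⟨a, x⟩ ⟨b, y⟩ h
    obtain ⟨h1, h2⟩ := Sigma.mk.inj_iff.1 h
    obtain rfl := Fin.ext h1
    exact congrArg _ (eq_of_heq h2)
  let J : X n ⊕ WeightedSmall X n → Weighted X n := fun z => match z with
    | .inl x => ⟨{⟨n, x⟩}, by simp⟩
    | .inr s => ⟨s.1.map incl, by rw [Multiset.map_map]; exact s.2⟩
  have hJ : Function.Bijective J := by
    refine ⟨?_, ?_⟩
    · have hdiff : ∀ x s, J (.inl x) ≠ J (.inr s) := by
        intro x s h
        have h' : ({⟨n, x⟩} : Multiset (Σ d, X d)) = s.1.map incl := congrArg Subtype.val h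
        have hmem : (⟨n, x⟩ : Σ d, X d) ∈ s.1.map incl := h' ▸ Multiset.mem_singleton_self _
        obtain ⟨z, -, hz⟩ := Multiset.mem_map.1 hmem
        exact (Fin.isLt z.1).ne (congrArg Sigma.fst hz)
      rintro (x | s) (y | t) h
      · have := congrArg Subtype.val h
        simp only [J, Multiset.singleton_inj, Sigma.mk.inj_iff, heq_eq_eq, true_and] at this
        rw [this]
      · exact absurd h (hdiff x t)
      · exact absurd h.symm (hdiff y s)
      · have := congrArg Subtype.val h
        exact congrArg _ (Subtype.ext (Multiset.map_injective hincl this))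
    · rintro ⟨s, hs⟩
      by_cases hbig : ∃ z ∈ s, z.1 = n
      · obtain ⟨⟨d, x⟩, hz, hd⟩ := hbig
        subst hd
        obtain ⟨t, rfl⟩ := Multiset.exists_cons_of_mem hz
        rw [Multiset.map_cons, Multiset.sum_cons] at hs
        refine ⟨.inl x, Subtype.ext ?_⟩
        rcases Multiset.empty_or_exists_mem t with rfl | ⟨w, hw⟩
        · rfl
        · exfalso
          have h1 : w.1 ≤ (t.map Sigma.fst).sum :=
            Multiset.le_sum_of_mem (Multiset.mem_map.2 ⟨w, hw, rfl⟩)
          dsimp only at hs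
          obtain ⟨a, y⟩ := w
          obtain rfl : a = 0 := by dsimp only at h1; omega
          exact hX.elim y
      · simp only [not_exists, not_and] at hbig
        have hlt : ∀ z ∈ s, z.1 < n := fun z hz => lt_of_le_of_ne
          (hs ▸ Multiset.le_sum_of_mem (Multiset.mem_map.2 ⟨z, hz, rfl⟩)) (hbig z hz)
        let t : Multiset (Σ d : Fin n, X d.val) := s.pmap (fun z hz => ⟨⟨z.1, hz⟩, z.2⟩) hlt
        have ht : t.map incl = s := by
          simp only [t, Multiset.map_pmap]
          exact (Multiset.pmap_eq_map _ id s hlt).trans (Multiset.map_id s)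
        refine ⟨.inr ⟨t, ?_⟩, Subtype.ext ht⟩
        have e : (t.map fun z => z.1.val).sum = ((t.map incl).map Sigma.fst).sum := by
          rw [Multiset.map_map]; rfl
        rw [e, ht, hs]
  have hfin : Finite (X n ⊕ WeightedSmall X n) := Finite.of_equiv _ (Equiv.ofBijective J hJ).symm
  have h1 : Finite (X n) := Finite.of_injective (Sum.inl : X n → X n ⊕ WeightedSmall X n) Sum.inl_injective
  have h2 : Finite (WeightedSmall X n) :=
    Finite.of_injective (Sum.inr : _ → X n ⊕ WeightedSmall X n) Sum.inr_injective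
  exact ⟨h1, h2, by rw [← Nat.card_sum, Nat.card_eq_of_bijective J hJ]⟩

theorem natCard_weightedSmall_congr {X Y : ℕ → Type u} (e : ∀ d, d < n → X d ≃ Y d) :
    Nat.card (WeightedSmall X n) = Nat.card (WeightedSmall Y n) := by
  let E : (Σ d : Fin n, X d.val) ≃ (Σ d : Fin n, Y d.val) :=
    Equiv.sigmaCongrRight fun d => e d.val d.isLt
  refine Nat.card_congr
    { toFun := fun s => ⟨s.1.map E, by rw [Multiset.map_map]; exact s.2⟩
      invFun := fun s => ⟨s.1.map E.symm, by rw [Multiset.map_map]; exact s.2⟩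
      left_inv := fun s => Subtype.ext (by simp [Multiset.map_map])
      right_inv := fun s => Subtype.ext (by simp [Multiset.map_map]) }

theorem whittaker_cusp {d : ℕ} (χ : CuspChar F d) (ψ : AddChar F ℂ) (hψ : ψ ≠ 1) :
    whittaker (χ.1 : GL (Fin d) F → ℂ) ψ = 1 := by
  rcases whittaker_irr χ.1 ψ hψ with h | h
  · have := χ.2.2.apply_one (CharCore.irr_isCharacter _) ψ hψ χ.2.1
    rw [h, mul_zero] at this
    exact absurd this (CharCore.irr_apply_one_ne_zero χ.1)
  · exact h

namespace Blocks

variable (B B' : Blocks n)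

/-- The multiset of cuspidal items of a datum. -/
noncomputable def items {c : B.Tuple F} (hc : B.AllCusp c) : Multiset (Σ d, CuspChar F d) :=
  (Finset.univ : Finset (Fin B.k)).val.map fun a => ⟨B.d a, c a, B.d_pos a, hc a⟩

theorem items_eq_iff {c : B.Tuple F} {c' : B'.Tuple F} (hc : B.AllCusp c) (hc' : B'.AllCusp c') :
    B.items hc = B'.items hc' ↔ Nonempty (Match B B' c c') := by
  let f : Fin B.k → Σ d, CuspChar F d := fun a => ⟨B.d a, c a, B.d_pos a, hc a⟩
  let f' : Fin B'.k → Σ d, CuspChar F d := fun a => ⟨B'.d a, c' a, B'.d_pos a, hc' a⟩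
  let g : (Σ d, CuspChar F d) → Item F := fun z => ⟨z.1, z.2.1⟩
  have hg : Function.Injective g := by
    rintro ⟨a, x⟩ ⟨b, y⟩ h
    obtain ⟨h1, h2⟩ := Sigma.mk.inj_iff.1 h
    dsimp only at h1
    subst h1
    exact congrArg _ (Subtype.ext (eq_of_heq h2))
  constructor
  · intro h
    have hcard : ∀ z, Fintype.card {b // f' b = z} = Fintype.card {a // f a = z} := by
      intro z
      have := congrArg (Multiset.count z) h
      simp only [items, Multiset.count_map] at this
      rw [Fintype.card_subtype, Fintype.card_subtype]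
      simp only [Finset.card_def, Finset.filter_val]
      convert this.symm using 3 <;> exact eq_comm
    let σ : Fin B'.k ≃ Fin B.k :=
      Equiv.ofFiberEquiv (f := f') (g := f) fun z => Fintype.equivOfCardEq (hcard z)
    exact ⟨⟨σ, fun b => congrArg g (Equiv.ofFiberEquiv_map (f := f') (g := f)
      (fun z => Fintype.equivOfCardEq (hcard z)) b)⟩⟩
  · rintro ⟨⟨σ, hσ⟩⟩
    have hf : f ∘ σ = f' := funext fun b => hg (hσ b)
    calc B.items hc = ((Finset.univ : Finset (Fin B'.k)).val.map σ).map f := by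
          rw [Multiset.map_univ_val_equiv σ]; rfl
      _ = _ := by rw [Multiset.map_map, hf]; rfl

theorem sum_items {c : B.Tuple F} (hc : B.AllCusp c) : ((B.items hc).map Sigma.fst).sum = n := by
  rw [items, Multiset.map_map]
  exact B.sum_d

theorem exists_items (w : Weighted (CuspChar F) n) :
    ∃ (B : Blocks n) (c : B.Tuple F) (hc : B.AllCusp c), B.items hc = w.1 := by
  obtain ⟨s, hs⟩ := w
  let l := s.toList
  have hsum : ∑ a : Fin l.length, (l.get a).1 = n := by
    rw [← List.sum_ofFn, ← hs, show List.ofFn (fun a => (l.get a).1) = l.map Sigma.fst by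
      rw [show (fun a => (l.get a).1) = Sigma.fst ∘ l.get from rfl, ← List.map_ofFn, List.ofFn_get],
      ← Multiset.sum_coe, ← Multiset.map_coe]
    simp [l]
  let B : Blocks n :=
    { k := l.length
      d := fun a => (l.get a).1
      d_pos := fun a => (l.get a).2.2.1
      e := (finCongr hsum.symm).trans finSigmaFinEquiv.symm }
  refine ⟨B, fun a => (l.get a).2.1, fun a => (l.get a).2.2.2, ?_⟩
  show (Finset.univ : Finset (Fin l.length)).val.map (fun a => l.get a) = s
  rw [Fin.univ_val_map, List.ofFn_get]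
  exact s.coe_toList

theorem exists_nat_ind (c : B.Tuple F) (χ : IrrCharacter (GL (Fin n) F)) :
    ∃ N : ℕ, classInner (B.ind c) (χ : GL (Fin n) F → ℂ) = N :=
  CharCore.IsCharacter.exists_classInner_irr_eq_natCast (B.isCharacter_ind c) χ

/-- The multiplicity of an irreducible character in an induced one. -/
noncomputable def mult (c : B.Tuple F) (χ : IrrCharacter (GL (Fin n) F)) : ℕ :=
  (B.exists_nat_ind c χ).choose

theorem classInner_eq_mult (c : B.Tuple F) (χ : IrrCharacter (GL (Fin n) F)) :
    classInner (B.ind c) (χ : GL (Fin n) F → ℂ) = B.mult c χ :=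
  (B.exists_nat_ind c χ).choose_spec

theorem sum_mult_mul (c : B.Tuple F) (c' : B'.Tuple F) :
    ((∑ χ, B.mult c χ * B'.mult c' χ : ℕ) : ℂ) = classInner (B.ind c) (B'.ind c') := by
  rw [CharCore.classInner_eq_sum (CharInd.isClassFunction_of_isCharacter (B.isCharacter_ind c))
    (CharInd.isClassFunction_of_isCharacter (B'.isCharacter_ind c')), Nat.cast_sum]
  refine Finset.sum_congr rfl fun χ _ => ?_
  rw [classInner_eq_mult, classInner_eq_mult, Complex.conj_natCast, Nat.cast_mul]

theorem existsUnique_generic {c : B.Tuple F} (hc : B.AllCusp c) (ψ : AddChar F ℂ) (hψ : ψ ≠ 1) :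
    ∃! χ : IrrCharacter (GL (Fin n) F),
      whittaker (χ : GL (Fin n) F → ℂ) ψ = 1 ∧ B.mult c χ ≠ 0 := by
  have h := B.classInner_ind_gg c ψ hψ
  rw [Finset.prod_eq_one fun a _ => whittaker_cusp (⟨c a, B.d_pos a, hc a⟩ : CuspChar F _) ψ hψ,
    CharCore.classInner_eq_sum (CharInd.isClassFunction_of_isCharacter (B.isCharacter_ind c))
      (f' := gg n ψ) (CharInd.isClassFunction_indFun _ _)] at h
  have hterm : ∀ χ : IrrCharacter (GL (Fin n) F), classInner (B.ind c) (χ : GL (Fin n) F → ℂ) *
      conj (classInner (gg n ψ) (χ : GL (Fin n) F → ℂ)) =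
      ((if whittaker (χ : GL (Fin n) F → ℂ) ψ = 1 then B.mult c χ else 0 : ℕ) : ℂ) := fun χ => by
    rw [CharCore.conj_classInner, classInner_gg (CharCore.irr_isClassFunction χ), classInner_eq_mult]
    rcases whittaker_irr χ ψ hψ with e | e <;> simp [e]
  simp only [hterm, ← Nat.cast_sum, Nat.cast_eq_one] at h
  obtain ⟨χ₀, -, h₀⟩ := Finset.exists_ne_zero_of_sum_ne_zero (h.trans_ne one_ne_zero)
  have hχ₀ : whittaker (χ₀ : GL (Fin n) F → ℂ) ψ = 1 ∧ B.mult c χ₀ ≠ 0 := by
    by_cases e : whittaker (χ₀ : GL (Fin n) F → ℂ) ψ = 1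
    · exact ⟨e, by simpa [e] using h₀⟩
    · simp [e] at h₀
  refine ⟨χ₀, hχ₀, fun χ hχ => ?_⟩
  by_contra hne
  have hle := Finset.sum_le_sum_of_subset (f := fun χ : IrrCharacter (GL (Fin n) F) =>
    if whittaker (χ : GL (Fin n) F → ℂ) ψ = 1 then B.mult c χ else 0) (Finset.subset_univ {χ, χ₀})
  rw [Finset.sum_pair hne, h, if_pos hχ.1, if_pos hχ₀.1] at hle
  have := Nat.pos_of_ne_zero hχ.2
  have := Nat.pos_of_ne_zero hχ₀.2
  omega

theorem items_eq_of_mult_ne_zero {c : B.Tuple F} {c' : B'.Tuple F} (hc : B.AllCusp c)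
    (hc' : B'.AllCusp c') {χ : IrrCharacter (GL (Fin n) F)} (h : B.mult c χ ≠ 0)
    (h' : B'.mult c' χ ≠ 0) : B.items hc = B'.items hc' := by
  rw [B.items_eq_iff B' hc hc', ← Fintype.card_pos_iff, Nat.pos_iff_ne_zero]
  intro h0
  have hs := B.sum_mult_mul B' c c'
  rw [B.classInner_ind B' hc hc', h0, Nat.cast_zero, Nat.cast_eq_zero, Finset.sum_eq_zero_iff] at hs
  exact mul_ne_zero h h' (hs χ (Finset.mem_univ _))

theorem mult_eq_of_items_eq {c : B.Tuple F} {c' : B'.Tuple F} (hc : B.AllCusp c)
    (hc' : B'.AllCusp c') (h : B.items hc = B'.items hc') (χ : IrrCharacter (GL (Fin n) F)) :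
    B.mult c χ = B'.mult c' χ := by
  obtain ⟨σ₀⟩ := (B.items_eq_iff B' hc hc').1 h
  have e1 : Fintype.card (Match B B c c) = Fintype.card (Match B B' c c') := Fintype.card_congr
    { toFun := fun τ => ⟨σ₀.1.trans τ.1, fun b => (τ.2 _).trans (σ₀.2 b)⟩
      invFun := fun τ => ⟨σ₀.1.symm.trans τ.1, fun a => (τ.2 _).trans (by
        rw [← σ₀.2 (σ₀.1.symm a), Equiv.apply_symm_apply])⟩
      left_inv := fun τ => Subtype.ext (by ext a; simp)
      right_inv := fun τ => Subtype.ext (by ext a; simp) }
  have e2 : Fintype.card (Match B' B' c' c') = Fintype.card (Match B B' c c') := Fintype.card_congr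
    { toFun := fun τ => ⟨τ.1.trans σ₀.1, fun b => (σ₀.2 _).trans (τ.2 b)⟩
      invFun := fun τ => ⟨τ.1.trans σ₀.1.symm, fun b => by
        show B'.item c' (σ₀.1.symm (τ.1 b)) = _
        rw [← σ₀.2, Equiv.apply_symm_apply, τ.2]⟩
      left_inv := fun τ => Subtype.ext (by ext a; simp)
      right_inv := fun τ => Subtype.ext (by ext a; simp) }
  have hA := B.sum_mult_mul B c c
  have hM := B.sum_mult_mul B' c c'
  have hB := B'.sum_mult_mul B' c' c'
  rw [B.classInner_ind B hc hc, e1, Nat.cast_inj] at hA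
  rw [B.classInner_ind B' hc hc', Nat.cast_inj] at hM
  rw [B'.classInner_ind B' hc' hc', e2, Nat.cast_inj] at hB
  have hz : ∑ χ, ((B.mult c χ : ℤ) - B'.mult c' χ) ^ 2 = 0 := by
    have hA' : ∑ χ, (B.mult c χ : ℤ) * B.mult c χ = Fintype.card (Match B B' c c') := by
      exact_mod_cast hA
    have hM' : ∑ χ, (B.mult c χ : ℤ) * B'.mult c' χ = Fintype.card (Match B B' c c') := by
      exact_mod_cast hM
    have hB' : ∑ χ, (B'.mult c' χ : ℤ) * B'.mult c' χ = Fintype.card (Match B B' c c') := by
      exact_mod_cast hB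
    rw [Finset.sum_congr rfl fun χ _ => show ((B.mult c χ : ℤ) - B'.mult c' χ) ^ 2 =
      (B.mult c χ : ℤ) * B.mult c χ + (B'.mult c' χ : ℤ) * B'.mult c' χ -
        2 * ((B.mult c χ : ℤ) * B'.mult c' χ) by ring, Finset.sum_sub_distrib, Finset.sum_add_distrib,
      ← Finset.mul_sum, hA', hM', hB']
    ring
  have := (Finset.sum_eq_zero_iff_of_nonneg fun χ _ => sq_nonneg _).1 hz χ (Finset.mem_univ _)
  rw [pow_eq_zero_iff two_ne_zero, sub_eq_zero, Nat.cast_inj] at this
  exact this

end Blocks

/-- Generic characters are parametrised by multisets of cuspidal characters. -/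
theorem nonempty_equiv_generic (ψ : AddChar F ℂ) (hψ : ψ ≠ 1) (hn : 1 ≤ n) :
    Nonempty (Weighted (CuspChar F) n ≃
      {χ : IrrCharacter (GL (Fin n) F) // whittaker (χ : GL (Fin n) F → ℂ) ψ = 1}) := by
  choose B c hc hB using fun w : Weighted (CuspChar F) n => Blocks.exists_items w
  have hex := fun w => (B w).existsUnique_generic (hc w) ψ hψ
  let f : Weighted (CuspChar F) n →
      {χ : IrrCharacter (GL (Fin n) F) // whittaker (χ : GL (Fin n) F → ℂ) ψ = 1} :=
    fun w => ⟨(hex w).choose, (hex w).choose_spec.1.1⟩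
  refine ⟨Equiv.ofBijective f ⟨fun w w' h => ?_, fun χ => ?_⟩⟩
  · refine Subtype.ext ?_
    rw [← hB w, ← hB w']
    have h' : (hex w).choose = (hex w').choose := congrArg Subtype.val h
    exact (B w).items_eq_of_mult_ne_zero (B w') (hc w) (hc w') (χ := (hex w).choose)
      (hex w).choose_spec.1.2 (h' ▸ (hex w').choose_spec.1.2)
  · obtain ⟨B₀, c₀, hc₀, hne⟩ := Blocks.exists_support hn χ.1
    let w : Weighted (CuspChar F) n := ⟨B₀.items hc₀, B₀.sum_items hc₀⟩
    refine ⟨w, Subtype.ext ((hex w).choose_spec.2 χ.1 ⟨χ.2, ?_⟩).symm⟩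
    rw [(B w).mult_eq_of_items_eq B₀ (hc w) hc₀ (hB w)]
    intro h0
    apply hne
    rw [← CharCore.conj_classInner, B₀.classInner_eq_mult, h0, Nat.cast_zero, map_zero]

open Polynomial UniqueFactorizationMonoid in
/-- Monic polynomials with non-zero constant term are multisets of monic irreducibles. -/
theorem nonempty_equiv_polys (n : ℕ) :
    Nonempty (Weighted (IrrPoly F) n ≃
      {P : F[X] // P.Monic ∧ P.natDegree = n ∧ P.coeff 0 ∈ ({0}ᶜ : Set F)}) := by
  let val : (Σ d, IrrPoly F d) → F[X] := fun z => z.2.1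
  have hval : Function.Injective val := by
    rintro ⟨a, P⟩ ⟨b, Q⟩ h
    obtain rfl : a = b := by rw [← P.2.2.2.1, ← Q.2.2.2.1]; exact congrArg natDegree h
    exact congrArg _ (Subtype.ext h)
  have hprod : ∀ s : Multiset (Σ d, IrrPoly F d), (s.map val).prod.Monic ∧
      (s.map val).prod.natDegree = (s.map Sigma.fst).sum ∧ (s.map val).prod.coeff 0 ≠ 0 := by
    intro s
    induction s using Multiset.induction_on with
    | empty => simp
    | cons z s ih =>
      obtain ⟨d, P, hm, hi, hd, h0⟩ := z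
      simp only [Multiset.map_cons, Multiset.prod_cons, Multiset.sum_cons]
      refine ⟨hm.mul ih.1, ?_, ?_⟩
      · rw [hm.natDegree_mul ih.1, ih.2.1]
        show P.natDegree + _ = d + _
        rw [hd]
      · rw [mul_coeff_zero]
        exact mul_ne_zero h0 ih.2.2
  have hnf : ∀ s : Multiset (Σ d, IrrPoly F d), normalizedFactors (s.map val).prod = s.map val := by
    intro s
    induction s using Multiset.induction_on with
    | empty => simp
    | cons z s ih =>
      obtain ⟨d, P, hm, hi, hd, h0⟩ := z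
      simp only [Multiset.map_cons, Multiset.prod_cons]
      rw [normalizedFactors_mul hi.ne_zero (hprod s).1.ne_zero, ih,
        normalizedFactors_irreducible hi, hm.normalize_eq_self, Multiset.singleton_add]
  refine ⟨Equiv.ofBijective (fun w => ⟨(w.1.map val).prod, (hprod w.1).1,
    (hprod w.1).2.1.trans w.2, (hprod w.1).2.2⟩) ⟨fun w w' h => Subtype.ext ?_, ?_⟩⟩
  · refine Multiset.map_injective hval ?_
    rw [← hnf w.1, ← hnf w'.1]
    exact congrArg normalizedFactors (congrArg Subtype.val h)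
  · rintro ⟨P, hm, hd, h0⟩
    have hP : ∀ Q ∈ normalizedFactors P, Q.Monic ∧ Irreducible Q ∧ Q.natDegree = Q.natDegree ∧
        Q.coeff 0 ≠ 0 := by
      intro Q hQ
      have hi := irreducible_of_normalized_factor Q hQ
      refine ⟨?_, hi, rfl, fun hQ0 => ?_⟩
      · rw [← normalize_normalized_factor Q hQ]
        exact monic_normalize hi.ne_zero
      · obtain ⟨R, hR⟩ := dvd_of_mem_normalizedFactors hQ
        refine h0 ?_
        rw [hR, mul_coeff_zero, hQ0, zero_mul]
        exact Set.mem_singleton _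
    let s : Multiset (Σ d, IrrPoly F d) :=
      (normalizedFactors P).pmap (fun Q hQ => ⟨Q.natDegree, Q, hQ⟩) hP
    have hs : s.map val = normalizedFactors P := by
      simp only [s, Multiset.map_pmap]
      exact (Multiset.pmap_eq_map _ id _ hP).trans (Multiset.map_id _)
    have hp : (s.map val).prod = P := by
      rw [hs, prod_normalizedFactors_eq hm.ne_zero, hm.normalize_eq_self]
    exact ⟨⟨s, by rw [← (hprod s).2.1, hp, hd]⟩, Subtype.ext hp⟩

/-- Cuspidal characters are as many as monic irreducible polynomials other than `X`. -/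
theorem natCard_cuspChar (ψ : AddChar F ℂ) (hψ : ψ ≠ 1) (n : ℕ) :
    Finite (CuspChar F n) ∧ Finite (IrrPoly F n) ∧
      Nat.card (CuspChar F n) = Nat.card (IrrPoly F n) := by
  induction n using Nat.strong_induction_on with
  | _ n ih =>
    have h0 : IsEmpty (CuspChar F 0) := ⟨fun χ => lt_irrefl 0 χ.2.1⟩
    have h0' : IsEmpty (IrrPoly F 0) := ⟨fun P => by
      have := Irreducible.natDegree_pos P.2.2.1
      rw [P.2.2.2.1] at this
      exact lt_irrefl 0 this⟩
    rcases Nat.eq_zero_or_pos n with rfl | hn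
    · exact ⟨inferInstance, inferInstance, by simp⟩
    obtain ⟨m, rfl⟩ : ∃ m, n = m + 1 := ⟨n - 1, by omega⟩
    obtain ⟨e⟩ := nonempty_equiv_generic (n := m + 1) ψ hψ hn
    obtain ⟨e'⟩ := nonempty_equiv_polys (F := F) (m + 1)
    have hcard : Nat.card (Weighted (CuspChar F) (m + 1)) = Nat.card (Weighted (IrrPoly F) (m + 1)) := by
      rw [Nat.card_congr e, Nat.card_congr e', card_generic m ψ hψ,
        CrossChar56.Semisimple.card_monic, Nat.card_coe_set_eq, Set.ncard_compl, Set.ncard_singleton,
        Nat.card_eq_fintype_card]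
    have : Finite (Weighted (CuspChar F) (m + 1)) := Finite.of_equiv _ e.symm
    have hfin : Finite (Weighted (IrrPoly F) (m + 1)) :=
      Nat.finite_of_card_ne_zero (hcard ▸ (by
        rw [Nat.card_congr e, card_generic m ψ hψ]
        have := Fintype.one_lt_card (α := F)
        exact Nat.mul_ne_zero (by omega) (pow_ne_zero _ (by omega))))
    obtain ⟨f1, f2, f3⟩ := natCard_weighted (CuspChar F) h0 hn
    obtain ⟨g1, g2, g3⟩ := natCard_weighted (IrrPoly F) h0' hn
    have hsmall : Nat.card (WeightedSmall (CuspChar F) (m + 1)) =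
        Nat.card (WeightedSmall (IrrPoly F) (m + 1)) :=
      natCard_weightedSmall_congr fun d hd => by
        obtain ⟨a1, a2, a3⟩ := ih d hd
        exact (Finite.card_eq.1 a3).some
    refine ⟨f1, g1, ?_⟩
    omega

end Cfsg.Agent.GLCusp57
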