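import Cfsg.Agent.GLCusp57.Basic

/-! The degree of a cuspidal character is fixed by its Whittaker multiplicity. -/

set_option autoImplicit false
set_option linter.unusedSectionVars false

open Matrix
open scoped MatrixGroups ComplexConjugate
open Cfsg

namespace Cfsg.Agent.GLCusp57

variable {F : Type*} [Field F] [Fintype F] [DecidableEq F] {n : ℕ}

/-- Unitriangular matrices equal to the identity in the columns before `c`. -/
def lastCols (n c : ℕ) (F : Type*) [Field F] [Fintype F] [DecidableEq F] :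
    Subgroup (GL (Fin n) F) :=
  subgroupOfMul {g | g ∈ unitri n F ∧ ∀ i j : Fin n, j.val < c →
      (g : Matrix (Fin n) (Fin n) F) i j = (1 : Matrix (Fin n) (Fin n) F) i j}
    ⟨one_mem _, fun i j _ => by simp⟩ (fun a b ha hb => ⟨mul_mem ha.1 hb.1, fun i j hj => by
      rw [Units.val_mul, Matrix.mul_apply]
      rw [Finset.sum_eq_single j]
      · rw [ha.2 i j hj, hb.2 j j hj, Matrix.one_apply_eq, mul_one]
      · intro k _ hk
        rw [hb.2 k j hj, Matrix.one_apply_ne hk, mul_zero]
      · simp⟩)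

theorem mem_lastCols {c : ℕ} {g : GL (Fin n) F} : g ∈ lastCols n c F ↔ g ∈ unitri n F ∧
    ∀ i j : Fin n, j.val < c →
      (g : Matrix (Fin n) (Fin n) F) i j = (1 : Matrix (Fin n) (Fin n) F) i j :=
  Iff.rfl

open Classical in
/-- The unnormalised Whittaker sum over the last columns. -/
noncomputable def colSum (χ : GL (Fin n) F → ℂ) (ψ : AddChar F ℂ) (c : ℕ) : ℂ :=
  ∑ u : lastCols n c F, χ u * conj (psiU ψ (u : GL (Fin n) F))

/-- The sum of the entries just above the diagonal in the rows from `c` on. -/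
def lowerSuper (c : ℕ) (M : Matrix (Fin n) (Fin n) F) : F :=
  ∑ i : Fin n, if h : c ≤ i.val ∧ i.val + 1 < n then M i ⟨i.val + 1, h.2⟩ else 0

/-- The pairing of a row vector with the part of column `c` above row `c`. -/
def colPair (c : Fin n) (μ : {r : Fin n // r < c} → F) (M : Matrix (Fin n) (Fin n) F) : F :=
  ∑ r, μ r * M r.1 c

section

variable {c : Fin n}

theorem map_sum_addChar {ι : Type*} [Fintype ι] (ψ : AddChar F ℂ) (f : ι → F) :
    ψ (∑ i, f i) = ∏ i, ψ (f i) := by
  classical
  refine Finset.induction_on (Finset.univ : Finset ι) (by simp [AddChar.map_zero_eq_one]) ?_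
  intro i s hi ih
  rw [Finset.sum_insert hi, Finset.prod_insert hi, AddChar.map_add_eq_mul, ih]

theorem colEntry_mul {u v : GL (Fin n) F} (hu : u ∈ lastCols n c F) (hv : v ∈ lastCols n c F)
    {r : Fin n} (hr : r < c) :
    ((u * v : GL (Fin n) F) : Matrix (Fin n) (Fin n) F) r c =
      (u : Matrix (Fin n) (Fin n) F) r c + (v : Matrix (Fin n) (Fin n) F) r c := by
  rw [Units.val_mul, Matrix.mul_apply, Finset.sum_eq_add r c hr.ne, hu.1 r r le_rfl,
    hv.1 c c le_rfl]
  · simp [add_comm]
  · intro k _ hk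
    rcases lt_or_ge k c with h | h
    · rw [hu.2 r k h, Matrix.one_apply_ne hk.1.symm, zero_mul]
    · rw [hv.1 k c h, Matrix.one_apply_ne hk.2, mul_zero]
  · simp
  · simp

theorem colPair_mul (μ : {r : Fin n // r < c} → F) {u v : GL (Fin n) F}
    (hu : u ∈ lastCols n c F) (hv : v ∈ lastCols n c F) :
    colPair c μ ((u * v : GL (Fin n) F) : Matrix (Fin n) (Fin n) F) =
      colPair c μ (u : Matrix (Fin n) (Fin n) F) + colPair c μ (v : Matrix (Fin n) (Fin n) F) := by
  unfold colPair
  rw [← Finset.sum_add_distrib]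
  exact Finset.sum_congr rfl fun r _ => by rw [colEntry_mul hu hv r.2, mul_add]

theorem mem_lastCols_succ_iff {u : GL (Fin n) F} :
    u ∈ lastCols n (c.val + 1) F ↔ u ∈ lastCols n c F ∧
      ∀ r : {r : Fin n // r < c}, (u : Matrix (Fin n) (Fin n) F) r.1 c = 0 := by
  refine ⟨fun h => ⟨⟨h.1, fun i j hj => h.2 i j (Nat.lt_succ_of_lt hj)⟩, fun r => by
    rw [h.2 r.1 c (Nat.lt_succ_self _), Matrix.one_apply_ne r.2.ne]⟩, ?_⟩
  rintro ⟨h, h0⟩
  refine ⟨h.1, fun i j hj => ?_⟩
  rcases Nat.lt_succ_iff_lt_or_eq.1 hj with hlt | heq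
  · exact h.2 i j hlt
  · obtain rfl : j = c := Fin.ext heq
    rcases lt_or_ge i j with hi | hi
    · rw [h0 ⟨i, hi⟩, Matrix.one_apply_ne hi.ne]
    · exact h.1 i j hi

theorem sum_colPair (ψ : AddChar F ℂ) (hψ : ψ ≠ 1) (y : {r : Fin n // r < c} → F) :
    ∑ μ : {r : Fin n // r < c} → F, ψ (∑ r, μ r * y r) =
      if y = 0 then (Fintype.card F : ℂ) ^ c.val else 0 := by
  classical
  have hcard : Fintype.card {r : Fin n // r < c} = c.val := by
    rw [Fintype.card_subtype, Finset.filter_gt_eq_Iio, Fin.card_Iio]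
  have hexp : ∀ μ : {r : Fin n // r < c} → F, ψ (∑ r, μ r * y r) = ∏ r, ψ (μ r * y r) :=
    fun μ => map_sum_addChar ψ _
  simp only [hexp]
  rw [← Fintype.prod_sum (fun r (a : F) => ψ (a * y r))]
  simp only [AddChar.sum_mulShift _ (AddChar.IsPrimitive.of_ne_one hψ)]
  split_ifs with h
  · simp [h, hcard]
  · obtain ⟨r, hr⟩ := Function.ne_iff.1 h
    exact Finset.prod_eq_zero (Finset.mem_univ r) (by simp [show y r ≠ 0 from hr])

open Classical in
theorem sum_colPair_sum (ψ : AddChar F ℂ) (hψ : ψ ≠ 1) (f : GL (Fin n) F → ℂ) :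
    ∑ μ : {r : Fin n // r < c} → F, ∑ u : lastCols n c F,
        ψ (colPair c μ (u : GL (Fin n) F)) * f u =
      (Fintype.card F : ℂ) ^ c.val * ∑ u : lastCols n (c.val + 1) F, f u := by
  rw [Finset.sum_comm, Finset.mul_sum]
  have h1 : ∀ u : lastCols n c F, ∑ μ : {r : Fin n // r < c} → F,
      ψ (colPair c μ (u : GL (Fin n) F)) * f u =
      if (u : GL (Fin n) F) ∈ lastCols n (c.val + 1) F then (Fintype.card F : ℂ) ^ c.val * f u else 0 := by
    intro u
    rw [← Finset.sum_mul]
    unfold colPair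
    rw [sum_colPair ψ hψ (fun r => ((u : GL (Fin n) F) : Matrix (Fin n) (Fin n) F) r.1 c),
      ite_mul, zero_mul]
    refine if_congr ?_ rfl rfl
    rw [mem_lastCols_succ_iff, funext_iff]
    simp [u.2]
  rw [Finset.sum_congr rfl fun u _ => h1 u, ← Finset.sum_filter]
  refine Finset.sum_bij (fun u hu => (⟨u.1, (Finset.mem_filter.1 hu).2⟩ : lastCols n (c.val + 1) F))
    (fun _ _ => Finset.mem_univ _) (fun a _ b _ h => Subtype.ext (congrArg (fun x => x.1) h :))
    (fun b _ => ⟨⟨b.1, (mem_lastCols_succ_iff.1 b.2).1⟩, by simp [b.2], rfl⟩) fun _ _ => rfl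

open Classical in
theorem card_lastCols (ψ : AddChar F ℂ) (hψ : ψ ≠ 1) :
    (Fintype.card (lastCols n c F) : ℂ) =
      (Fintype.card F : ℂ) ^ c.val * (Fintype.card (lastCols n (c.val + 1) F) : ℂ) := by
  have h := sum_colPair_sum (c := c) ψ hψ (fun _ => 1)
  simp only [mul_one, Finset.sum_const, Finset.card_univ, nsmul_eq_mul] at h
  rw [← h]
  have hz : ∀ μ : {r : Fin n // r < c} → F, μ ≠ 0 →
      ∑ u : lastCols n c F, ψ (colPair c μ (u : GL (Fin n) F)) = 0 := by
    intro μ hμ
    obtain ⟨r, hr⟩ := Function.ne_iff.1 hμ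
    obtain ⟨a, ha⟩ : ∃ a : F, ψ (μ r * a) ≠ 1 := by
      by_contra hall
      simp only [not_exists, not_not] at hall
      refine hψ (DFunLike.ext _ _ fun x => ?_)
      have := hall ((μ r)⁻¹ * x)
      rw [mul_inv_cancel_left₀ hr] at this
      rw [this, AddChar.one_apply]
    let e : GL (Fin n) F := ⟨1 + Matrix.single r.1 c a, 1 - Matrix.single r.1 c a,
      by simp [add_mul, mul_sub, r.2.ne'], by simp [sub_mul, mul_add, r.2.ne']⟩
    have he : e ∈ lastCols n c F := by
      refine ⟨fun i j hji => ?_, fun i j hj => ?_⟩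
      · show (1 + Matrix.single r.1 c a) i j = _
        rw [Matrix.add_apply, Matrix.single_apply, if_neg, add_zero]
        rintro ⟨rfl, rfl⟩
        exact not_lt.2 hji r.2
      · show (1 + Matrix.single r.1 c a) i j = _
        rw [Matrix.add_apply, Matrix.single_apply, if_neg, add_zero]
        rintro ⟨rfl, rfl⟩
        exact lt_irrefl _ hj
    have hshift : ψ (μ r * a) * ∑ u : lastCols n c F, ψ (colPair c μ (u : GL (Fin n) F)) =
        ∑ u : lastCols n c F, ψ (colPair c μ (u : GL (Fin n) F)) := by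
      rw [Finset.mul_sum]
      refine Fintype.sum_equiv (Equiv.mulLeft ⟨e, he⟩) _ _ fun u => ?_
      rw [Equiv.coe_mulLeft, Subgroup.coe_mul, colPair_mul μ he u.2, AddChar.map_add_eq_mul]
      congr 2
      rw [colPair, Finset.sum_eq_single r]
      · show _ = μ r * (1 + Matrix.single r.1 c a) r.1 c
        simp [r.2.ne]
      · intro b _ hb
        show μ b * (1 + Matrix.single r.1 c a) b.1 c = 0
        simp [b.2.ne, Subtype.coe_injective.ne hb.symm]
      · simp
    by_contra hne
    exact ha ((mul_eq_right₀ hne).1 hshift)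
  rw [Finset.sum_eq_single 0 (fun μ _ hμ => hz μ hμ) (by simp)]
  simp [colPair]

theorem exists_levi_row (μ : {r : Fin n // r < c} → F) (hμ : μ ≠ 0) :
    ∃ g : GL (Fin n) F,
      (∀ i j : Fin n, c ≤ i ∨ c ≤ j →
        (g : Matrix (Fin n) (Fin n) F) i j = (1 : Matrix (Fin n) (Fin n) F) i j) ∧
      ∀ k : Fin n, ∀ hk : k.val + 1 = c.val, ∀ r : {r : Fin n // r < c},
        (g : Matrix (Fin n) (Fin n) F) k r.1 = μ r := by
  classical
  obtain ⟨r₀, hr₀⟩ := Function.ne_iff.1 hμ
  have hk0 : c.val - 1 < n := by omega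
  set k₀ : Fin n := ⟨c.val - 1, hk0⟩ with hk₀
  have hk0c : k₀ < c := by
    have : r₀.1.val < c.val := r₀.2
    rw [Fin.lt_def, hk₀]; dsimp only; omega
  let v : Fin n → F := fun j => if h : j < c then μ ⟨j, h⟩ else 0
  let M : Matrix (Fin n) (Fin n) F := (1 : Matrix (Fin n) (Fin n) F).updateRow r₀.1 v
  have hdet : M.det = μ r₀ := by
    have e : M = (1 : Matrix (Fin n) (Fin n) F).updateRow r₀.1
        (∑ j, v j • (1 : Matrix (Fin n) (Fin n) F) j) := by
      show Matrix.updateRow 1 r₀.1 v = _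
      refine congrArg _ (funext fun j => ?_)
      rw [Finset.sum_apply, Finset.sum_eq_single j]
      · simp
      · intro k _ hk; simp [Matrix.one_apply_ne hk]
      · simp
    rw [e, Matrix.det_updateRow_sum]
    simp [v, r₀.2]
  refine ⟨GLFlag.permGL F (Equiv.swap r₀.1 k₀) *
    Matrix.GeneralLinearGroup.mkOfDetNeZero M (hdet ▸ hr₀), fun i j hij => ?_, fun k hk r => ?_⟩
  · rw [Units.val_mul, permGL_mul_apply, Equiv.swap_inv]
    show M (Equiv.swap r₀.1 k₀ i) j = _
    rcases hij with hi | hj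
    · rw [Equiv.swap_apply_of_ne_of_ne (ne_of_gt (r₀.2.trans_le hi)) (ne_of_gt (hk0c.trans_le hi))]
      simp [M, Matrix.updateRow_ne (ne_of_gt (r₀.2.trans_le hi))]
    · simp only [M, Matrix.updateRow_apply]
      split_ifs with h
      · simp only [v, dif_neg (not_lt.2 hj)]
        rw [Matrix.one_apply_ne]
        rintro rfl
        have h' := congrArg (Equiv.swap r₀.1 k₀) h
        rw [Equiv.swap_apply_self, Equiv.swap_apply_left] at h'
        exact not_lt.2 hj (h' ▸ hk0c)
      · rcases eq_or_ne i j with rfl | hne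
        · rw [Equiv.swap_apply_of_ne_of_ne (ne_of_gt (r₀.2.trans_le hj))
            (ne_of_gt (hk0c.trans_le hj))]
        · rw [Matrix.one_apply_ne hne, Matrix.one_apply_ne]
          intro h'
          have h2 := congrArg (Equiv.swap r₀.1 k₀) h'
          rw [Equiv.swap_apply_self, Equiv.swap_apply_of_ne_of_ne (ne_of_gt (r₀.2.trans_le hj))
            (ne_of_gt (hk0c.trans_le hj))] at h2
          exact hne h2
  · obtain rfl : k = k₀ := Fin.ext (by simp [hk₀]; omega)
    rw [Units.val_mul, permGL_mul_apply, Equiv.swap_inv, Equiv.swap_apply_right]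
    show M r₀.1 r.1 = μ r
    simp [M, v, r.2]

variable {χ : GL (Fin n) F → ℂ}

open Classical in
theorem colSum_step (hχ : IsCharacter _ χ) (hc : IsCusp χ) (hc0 : 0 < c.val) (ψ : AddChar F ℂ)
    (hψ : ψ ≠ 1) :
    (Fintype.card F : ℂ) ^ c.val * colSum χ ψ (c.val + 1) =
      ((Fintype.card F : ℂ) ^ c.val - 1) * colSum χ ψ c := by
  let low : (GL (Fin n) F) → F := fun u => lowerSuper c.val (u : Matrix (Fin n) (Fin n) F)
  let T : ({r : Fin n // r < c} → F) → ℂ := fun μ =>
    ∑ u : lastCols n c F, χ u * conj (ψ (low u + colPair c μ (u : (GL (Fin n) F))))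
  set k₀ : Fin n := ⟨c.val - 1, by omega⟩ with hk₀
  have hk0c : k₀ < c := by rw [Fin.lt_def, hk₀]; dsimp only; omega
  set μ₀ : {r : Fin n // r < c} → F := Pi.single ⟨k₀, hk0c⟩ 1 with hμ₀
  have hsplit : ∀ u : (GL (Fin n) F), u ∈ lastCols n c F →
      superSum (u : Matrix (Fin n) (Fin n) F) = low u + colPair c μ₀ (u : (GL (Fin n) F)) := by
    intro u hu
    have hcp : colPair c μ₀ (u : (GL (Fin n) F)) = (u : Matrix (Fin n) (Fin n) F) k₀ c := by
      simp [colPair, hμ₀, Pi.single_apply]
    rw [hcp, superSum]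
    show _ = lowerSuper c.val _ + _
    rw [lowerSuper, ← Finset.add_sum_erase _ _ (Finset.mem_univ k₀),
      ← Finset.add_sum_erase _ (fun i : Fin n => if h : c.val ≤ i.val ∧ i.val + 1 < n then
        (u : Matrix (Fin n) (Fin n) F) i ⟨i.val + 1, h.2⟩ else 0) (Finset.mem_univ k₀)]
    have hk : k₀.val + 1 = c.val := by simp [hk₀]; omega
    rw [dif_pos (hk ▸ c.isLt), dif_neg (fun h => by omega), zero_add,
      show (⟨k₀.val + 1, hk ▸ c.isLt⟩ : Fin n) = c from Fin.ext hk, add_comm]
    congr 1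
    refine Finset.sum_congr rfl fun i hi => ?_
    have hik : i.val ≠ k₀.val := fun h => Finset.ne_of_mem_erase hi (Fin.ext h)
    by_cases h1 : i.val + 1 < n
    · rw [dif_pos h1]
      by_cases h2 : c.val ≤ i.val
      · rw [dif_pos ⟨h2, h1⟩]
      · rw [dif_neg (fun h => h2 h.1), hu.2 i ⟨i.val + 1, h1⟩ (by simp [hk₀] at hik ⊢; omega),
          Matrix.one_apply_ne (by simp [Fin.ext_iff])]
    · rw [dif_neg h1, dif_neg (fun h => h1 h.2)]
  have hlowadd : ∀ u v : (GL (Fin n) F), v ∈ corner F (stdCorner n c.val) → u ∈ lastCols n c F →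
      low (u * v) = low u := by
    intro u v hv hu
    refine Finset.sum_congr rfl fun i _ => ?_
    split_ifs with h
    · rw [Units.val_mul, Matrix.mul_apply, Finset.sum_eq_single ⟨i.val + 1, h.2⟩]
      · rw [hv _ _ (fun h' => by simp at h'; omega), Matrix.one_apply_eq, mul_one]
      · intro k _ hk
        by_cases hkc : k.val < c.val
        · rw [hu.1 i k (Fin.le_def.2 (by omega)), Matrix.one_apply_ne (fun e => by
            have := congrArg Fin.val e; omega), zero_mul]
        · rw [hv k _ (fun h' => hkc (mem_stdCorner.1 h'.1)), Matrix.one_apply_ne hk, mul_zero]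
      · simp
    · rfl
  -- the trivial term vanishes by cuspidality
  have hT0 : T 0 = 0 := by
    have hR : corner F (stdCorner n c.val) ≤ lastCols n c F := by
      intro v hv
      refine ⟨fun i j hji => hv i j (fun h => ?_), fun i j hj => hv i j (fun h => ?_)⟩
      · simp at h; exact absurd hji (not_le.2 (Fin.lt_def.2 (by omega)))
      · simp at h; omega
    have hne : (stdCorner n c.val).Nonempty := ⟨⟨0, by omega⟩, by simp [hc0]⟩
    have hne' : stdCorner n c.val ≠ Finset.univ := fun h => by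
      have := Finset.mem_univ c
      rw [← h] at this
      simp at this
    have hT : (Fintype.card (corner F (stdCorner n c.val)) : ℂ) * T 0 =
        ∑ u : lastCols n c F, ∑ v : corner F (stdCorner n c.val),
          χ ((u : (GL (Fin n) F)) * v) * conj (ψ (low u + colPair c 0 (u : (GL (Fin n) F)))) := by
      rw [Finset.sum_comm, ← nsmul_eq_mul, ← Finset.card_univ, ← Finset.sum_const]
      refine Finset.sum_congr rfl fun v _ => ?_
      refine (Fintype.sum_equiv (Equiv.mulRight ⟨v.1, hR v.2⟩) _ _ fun u => ?_).symm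
      simp [colPair, hlowadd u.1 v.1 v.2 u.2]
    rw [Finset.sum_eq_zero] at hT
    · exact (mul_eq_zero.1 hT).resolve_left (Nat.cast_ne_zero.2 Fintype.card_ne_zero)
    · intro u _
      rw [← Finset.sum_mul, hc.sum_corner hχ hne hne', zero_mul]
  -- the other terms are conjugate to the standard one
  have hTμ : ∀ μ, μ ≠ 0 → T μ = colSum χ ψ c := by
    intro μ hμ
    obtain ⟨g, hg, hgμ⟩ := exists_levi_row μ hμ
    have hginv : ∀ i j : Fin n, c ≤ i →
        ((g⁻¹ : (GL (Fin n) F)) : Matrix (Fin n) (Fin n) F) i j = (1 : Matrix (Fin n) (Fin n) F) i j := by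
      intro i j hi
      have h := congrFun (congrFun (Units.mul_inv g) i) j
      rw [Matrix.mul_apply, Finset.sum_eq_single i, hg i i (Or.inl hi), Matrix.one_apply_eq,
        one_mul] at h
      · exact h
      · intro k _ hk
        rw [hg i k (Or.inl hi), Matrix.one_apply_ne hk.symm, zero_mul]
      · simp
    have key : ∀ u : (GL (Fin n) F), u ∈ lastCols n c F →
        ((g * u * g⁻¹ : (GL (Fin n) F)) : Matrix (Fin n) (Fin n) F) =
          1 + (g : Matrix (Fin n) (Fin n) F) * ((u : Matrix (Fin n) (Fin n) F) - 1) := by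
      intro u hu
      have hX : ((u : Matrix (Fin n) (Fin n) F) - 1) * ((g⁻¹ : (GL (Fin n) F)) : Matrix (Fin n) (Fin n) F) =
          (u : Matrix (Fin n) (Fin n) F) - 1 := by
        ext i j
        rw [Matrix.mul_apply, Finset.sum_eq_single j]
        · rcases lt_or_ge j c with hj | hj
          · simp [hu.2 i j hj]
          · rw [hginv j j hj, Matrix.one_apply_eq, mul_one]
        · intro k _ hk
          rcases lt_or_ge k c with hk' | hk'
          · simp [hu.2 i k hk']
          · rw [hginv k j hk', Matrix.one_apply_ne hk, mul_zero]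
        · simp
      rw [Units.val_mul, Units.val_mul]
      conv_lhs => rw [show (u : Matrix (Fin n) (Fin n) F) = 1 + ((u : Matrix (Fin n) (Fin n) F) - 1) by
        abel]
      rw [mul_add, add_mul, mul_one, Units.mul_inv, mul_assoc, hX]
    have happ : ∀ u : (GL (Fin n) F), u ∈ lastCols n c F → ∀ i j : Fin n, c ≤ i →
        ((g * u * g⁻¹ : (GL (Fin n) F)) : Matrix (Fin n) (Fin n) F) i j = (u : Matrix (Fin n) (Fin n) F) i j := by
      intro u hu i j hi
      rw [key u hu, Matrix.add_apply, Matrix.mul_apply, Finset.sum_eq_single i]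
      · rw [hg i i (Or.inl hi)]; simp
      · intro k _ hk
        rw [hg i k (Or.inl hi), Matrix.one_apply_ne hk.symm, zero_mul]
      · simp
    have hmem : ∀ u : (GL (Fin n) F), u ∈ lastCols n c F → g * u * g⁻¹ ∈ lastCols n c F := by
      intro u hu
      have hcol : ∀ i j : Fin n, j < c → ((g * u * g⁻¹ : (GL (Fin n) F)) : Matrix (Fin n) (Fin n) F) i j =
          (1 : Matrix (Fin n) (Fin n) F) i j := by
        intro i j hj
        rw [key u hu, Matrix.add_apply, Matrix.mul_apply, Finset.sum_eq_zero, add_zero]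
        intro k _
        simp [hu.2 k j hj]
      refine ⟨fun i j hji => ?_, hcol⟩
      rcases lt_or_ge j c with hj | hj
      · exact hcol i j hj
      · rw [happ u hu i j (hj.trans hji), hu.1 i j hji]
    have hval : ∀ u : (GL (Fin n) F), u ∈ lastCols n c F →
        superSum ((g * u * g⁻¹ : (GL (Fin n) F)) : Matrix (Fin n) (Fin n) F) = low u + colPair c μ (u : (GL (Fin n) F)) := by
      intro u hu
      rw [hsplit _ (hmem u hu)]
      congr 1
      · refine Finset.sum_congr rfl fun i _ => ?_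
        split_ifs with h
        · exact happ u hu i _ h.1
        · rfl
      · rw [colPair, colPair, Finset.sum_eq_single ⟨k₀, hk0c⟩ (fun b _ hb => by
          simp [hμ₀, hb]) (by simp)]
        simp only [hμ₀, Pi.single_eq_same, one_mul]
        rw [key u hu, Matrix.add_apply, Matrix.one_apply_ne hk0c.ne, zero_add, Matrix.mul_apply,
          ← Fintype.sum_subtype_add_sum_subtype (fun r => r < c)]
        rw [Finset.sum_eq_zero (s := (Finset.univ : Finset {r : Fin n // ¬ r < c})), add_zero]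
        · exact Finset.sum_congr rfl fun r _ => by
            rw [hgμ k₀ (by simp [hk₀]; omega) r]; simp [r.2.ne]
        · intro r _
          rw [hg k₀ r.1 (Or.inr (not_lt.1 r.2)), Matrix.one_apply_ne
            (ne_of_lt (hk0c.trans_le (not_lt.1 r.2))), zero_mul]
    have hback : ∀ u : (GL (Fin n) F), u ∈ lastCols n c F → g⁻¹ * u * g ∈ lastCols n c F := by
      intro u hu
      have hmul := inv_mem_of_mul_mem (s := {x : (GL (Fin n) F) | ∀ v ∈ lastCols n c F, x * v * x⁻¹ ∈ lastCols n c F})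
        (fun v hv => by simpa using hv) (fun a b ha hb v hv => by
          rw [show a * b * v * (a * b)⁻¹ = a * (b * v * b⁻¹) * a⁻¹ by group]
          exact ha _ (hb v hv)) hmem
      simpa using hmul u hu
    refine Fintype.sum_equiv
      { toFun := fun u => ⟨_, hmem u.1 u.2⟩
        invFun := fun u => ⟨_, hback u.1 u.2⟩
        left_inv := fun u => Subtype.ext (show g⁻¹ * (g * u.1 * g⁻¹) * g = u.1 by group)
        right_inv := fun u => Subtype.ext (show g * (g⁻¹ * u.1 * g) * g⁻¹ = u.1 by group) }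
      _ _ fun u => ?_
    show _ = χ (g * u.1 * g⁻¹) * conj (psiU ψ (g * u.1 * g⁻¹))
    rw [psiU, hval u.1 u.2, CharInd.isClassFunction_of_isCharacter hχ]
  have hsum : (Fintype.card F : ℂ) ^ c.val * colSum χ ψ (c.val + 1) = ∑ μ, T μ := by
    rw [colSum, ← sum_colPair_sum ψ hψ (fun u => χ u * conj (psiU ψ u))]
    refine Fintype.sum_equiv (Equiv.subLeft μ₀) _ _ fun μ => Finset.sum_congr rfl fun u _ => ?_
    rw [psiU, hsplit u.1 u.2, conj_addChar, conj_addChar, mul_comm (χ _), ← mul_assoc,
      mul_comm (χ _), ← AddChar.map_add_eq_mul]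
    congr 2
    simp only [Equiv.subLeft_apply, colPair, Pi.sub_apply, sub_mul, Finset.sum_sub_distrib]
    ring
  have hq : (Fintype.card ({r : Fin n // r < c} → F) : ℂ) = (Fintype.card F : ℂ) ^ c.val := by
    have hcard : Fintype.card {r : Fin n // r < c} = c.val := by
      rw [Fintype.card_subtype, Finset.filter_gt_eq_Iio, Fin.card_Iio]
    rw [Fintype.card_fun, hcard, Nat.cast_pow]
  rw [hsum, ← Finset.add_sum_erase _ _ (Finset.mem_univ (0 : {r : Fin n // r < c} → F)), hT0,
    zero_add, Finset.sum_congr rfl fun μ hμ => hTμ μ (Finset.ne_of_mem_erase hμ), Finset.sum_const,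
    Finset.card_erase_of_mem (Finset.mem_univ _), Finset.card_univ, nsmul_eq_mul,
    Nat.cast_sub Fintype.card_pos, hq, Nat.cast_one]

end

open Classical in
/-- The Whittaker multiplicity of a class function. -/
noncomputable def whittaker (χ : GL (Fin n) F → ℂ) (ψ : AddChar F ℂ) : ℂ :=
  (Nat.card (unitri n F) : ℂ)⁻¹ * ∑ u : unitri n F, χ u * conj (psiU ψ (u : GL (Fin n) F))

theorem lastCols_top : lastCols n n F = ⊥ := by
  rw [eq_bot_iff]
  intro g hg
  rw [Subgroup.mem_bot]
  apply Units.ext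
  ext i j
  exact hg.2 i j j.isLt

theorem lastCols_one : lastCols n 1 F = unitri n F := by
  refine le_antisymm (fun g hg => hg.1) fun g hg => ⟨hg, fun i j hj => hg i j ?_⟩
  rw [Fin.le_def]; omega

/-- A cuspidal character has degree `∏ (q^i − 1)` times its Whittaker multiplicity. -/
theorem IsCusp.apply_one {χ : GL (Fin n) F → ℂ} (hc : IsCusp χ) (hχ : IsCharacter _ χ)
    (ψ : AddChar F ℂ) (hψ : ψ ≠ 1) (hn : 1 ≤ n) :
    χ 1 = (∏ i ∈ Finset.Ico 1 n, ((Fintype.card F : ℂ) ^ i - 1)) * whittaker χ ψ := by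
  classical
  let m : ℕ → ℂ := fun c => colSum χ ψ c / (Fintype.card (lastCols n c F) : ℂ)
  have hstep : ∀ c : ℕ, 1 ≤ c → c < n → m (c + 1) = ((Fintype.card F : ℂ) ^ c - 1) * m c := by
    intro c h1 h2
    have hs := colSum_step (c := ⟨c, h2⟩) hχ hc h1 ψ hψ
    have hcd := card_lastCols (c := (⟨c, h2⟩ : Fin n)) ψ hψ
    have h0 : (Fintype.card (lastCols n (c + 1) F) : ℂ) ≠ 0 := Nat.cast_ne_zero.2 Fintype.card_ne_zero
    have hq0 : (Fintype.card F : ℂ) ^ c ≠ 0 := pow_ne_zero _ (Nat.cast_ne_zero.2 Fintype.card_ne_zero)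
    simp only [m]
    rw [hcd, ← mul_div_assoc, ← hs]
    field_simp
  have hall : ∀ d : ℕ, d + 1 ≤ n →
      m n = (∏ i ∈ Finset.Ico (n - d) n, ((Fintype.card F : ℂ) ^ i - 1)) * m (n - d) := by
    intro d hd
    induction d with
    | zero => simp
    | succ d ih =>
      rw [ih (by omega), show n - d = (n - (d + 1)) + 1 by omega,
        hstep _ (by omega) (by omega), Finset.prod_eq_prod_Ico_succ_bot (a := n - (d + 1)) (by omega)]
      ring
  have hm1 : m n = χ 1 := by
    have h1 : ∀ u : lastCols n n F, (u : GL (Fin n) F) = 1 := fun u =>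
      Subgroup.mem_bot.1 (lastCols_top.le u.2)
    simp only [m, colSum, h1, psiU_one, map_one, mul_one, Finset.sum_const, Finset.card_univ,
      nsmul_eq_mul]
    rw [mul_div_cancel_left₀ _ (Nat.cast_ne_zero.2 Fintype.card_ne_zero)]
  have hm2 : m 1 = whittaker χ ψ := by
    simp only [m, colSum, whittaker, div_eq_inv_mul, ← Nat.card_eq_fintype_card]
    rw [lastCols_one]
  rw [← hm1, ← hm2, hall (n - 1) (by omega), show n - (n - 1) = 1 by omega]

end Cfsg.Agent.GLCusp57
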