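import Cfsg.Agent.GLCusp57.Basic

/-! The monomial matrices on which the Gelfand–Graev Hecke algebra is supported. -/

set_option autoImplicit false
set_option linter.unusedSectionVars false

open Matrix
open scoped MatrixGroups
open Cfsg

namespace Cfsg.Agent.GLCusp57

variable {F : Type*} [Field F] [Fintype F] [DecidableEq F] {n : ℕ}

/-- An ascent is a step by one, with equal scalars. -/
def Relevant (σ : Equiv.Perm (Fin n)) (t : Fin n → Fˣ) : Prop :=
  ∀ i j : Fin n, j.val = i.val + 1 → σ i < σ j → (σ j).val = (σ i).val + 1 ∧ t j = t i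

/-- The relevant monomial data. -/
def RelData (n : ℕ) (F : Type*) [Field F] : Type _ :=
  {x : Equiv.Perm (Fin n) × (Fin n → Fˣ) //
    ∀ i j : Fin n, j.val = i.val + 1 → x.1 i < x.1 j → (x.1 j).val = (x.1 i).val + 1 ∧ x.2 j = x.2 i}

noncomputable instance : Fintype (RelData n F) :=
  @Fintype.ofFinite _ (Subtype.finite (α := Equiv.Perm (Fin n) × (Fin n → Fˣ)))

namespace Relevant

variable {σ : Equiv.Perm (Fin n)} {t : Fin n → Fˣ}

theorem run (h : Relevant σ t) {i j : Fin n} (hij : i ≤ j) (hlt : i = j ∨ σ i < σ j) {k : Fin n}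
    (hik : i ≤ k) (hkj : k ≤ j) : (σ k).val = (σ i).val + (k.val - i.val) ∧ t k = t i := by
  obtain ⟨d, hd⟩ : ∃ d, j.val = i.val + d := ⟨j.val - i.val, by have := Fin.le_def.1 hij; omega⟩
  induction d generalizing j k with
  | zero =>
    obtain rfl : k = i := Fin.ext (by have := Fin.le_def.1 hik; have := Fin.le_def.1 hkj; omega)
    simp
  | succ d ih =>
    have hne : i ≠ j := fun e => by rw [e] at hd; omega
    have hlt' := hlt.resolve_left hne
    set j' : Fin n := ⟨i.val + d, by omega⟩ with hj'
    have hstep : j.val = j'.val + 1 := by simp [hj']; omega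
    have hij' : i ≤ j' := Fin.le_def.2 (by simp [hj'])
    by_cases hasc : σ j' < σ j
    · obtain ⟨h1, h2⟩ := h j' j hstep hasc
      have hcase : i = j' ∨ σ i < σ j' := by
        rcases eq_or_ne i j' with e | e
        · exact Or.inl e
        · refine Or.inr (lt_of_le_of_ne (Fin.le_def.2 ?_) fun e' => e (σ.injective e'))
          have := Fin.lt_def.1 hlt'; omega
      rcases lt_or_eq_of_le (Fin.le_def.1 hkj) with hk | hk
      · exact ih hij' hcase hik (Fin.le_def.2 (by simp [hj']; omega)) (by simp [hj'])
      · obtain rfl : k = j := Fin.ext hk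
        obtain ⟨e1, e2⟩ := ih hij' hcase hij' le_rfl (by simp [hj'])
        refine ⟨?_, h2.trans e2⟩
        rw [h1, e1]
        have := Fin.le_def.1 hij'
        simp only [hj'] at *
        omega
    · exfalso
      have hgt : σ j < σ j' := lt_of_le_of_ne (not_lt.1 hasc) (fun e => by
        have := congrArg Fin.val (σ.injective e); omega)
      have hcase : i = j' ∨ σ i < σ j' := Or.inr (hlt'.trans hgt)
      obtain ⟨e1, -⟩ := ih hij' hcase hij' le_rfl (by simp [hj'])
      have h1 := Fin.lt_def.1 hlt'
      have h2 := Fin.lt_def.1 hgt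
      simp only [hj'] at e1 h2
      set m : Fin n := ⟨i.val + ((σ j).val - (σ i).val), by omega⟩ with hm
      obtain ⟨e2, -⟩ := ih hij' hcase (k := m) (Fin.le_def.2 (by simp [hm]))
        (Fin.le_def.2 (by simp [hm, hj']; omega)) (by simp [hj'])
      have e3 : σ m = σ j := Fin.ext (by rw [e2]; simp [hm]; omega)
      have := congrArg Fin.val (σ.injective e3)
      simp [hm] at this
      omega

theorem succ_of_lt (h : Relevant σ t) {i j : Fin n} (hij : i < j) (hlt : σ i < σ j) :
    (σ j).val = (σ i).val + (j.val - i.val) ∧ t j = t i :=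
  h.run hij.le (Or.inr hlt) hij.le le_rfl

theorem lt_iff (h : Relevant σ t) {i j : Fin n} (hij : i < j) :
    σ i < σ j ↔ ∀ k k' : Fin n, k'.val = k.val + 1 → i ≤ k → k' ≤ j → σ k < σ k' := by
  refine ⟨fun hlt k k' hk hik hkj => ?_, fun hall => ?_⟩
  · have hik' : i ≤ k' := Fin.le_def.2 (by have := Fin.le_def.1 hik; omega)
    have e1 := (h.run hij.le (Or.inr hlt) hik (Fin.le_def.2 (by have := Fin.le_def.1 hkj; omega))).1
    have e2 := (h.run hij.le (Or.inr hlt) hik' hkj).1
    rw [Fin.lt_def, e1, e2]
    have := Fin.le_def.1 hik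
    omega
  · obtain ⟨d, hd⟩ : ∃ d, j.val = i.val + 1 + d :=
      ⟨j.val - i.val - 1, by have := Fin.lt_def.1 hij; omega⟩
    induction d generalizing j with
    | zero => exact hall i j hd le_rfl le_rfl
    | succ d ih =>
      set j' : Fin n := ⟨i.val + 1 + d, by omega⟩ with hj'
      have hij' : i < j' := Fin.lt_def.2 (by simp [hj']; omega)
      refine (ih hij' (fun k k' hk hik hkj => hall k k' hk hik (hkj.trans
        (Fin.le_def.2 (by simp [hj']; omega)))) rfl).trans (hall j' j ?_ hij'.le le_rfl)
      simp [hj']; omega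

theorem ext_of_ascents {σ' : Equiv.Perm (Fin n)} {t' : Fin n → Fˣ} (h : Relevant σ t)
    (h' : Relevant σ' t') (hasc : ∀ i j : Fin n, j.val = i.val + 1 → (σ i < σ j ↔ σ' i < σ' j)) :
    σ = σ' := by
  have hiff : ∀ i j : Fin n, σ i < σ j ↔ σ' i < σ' j := by
    have key : ∀ i j : Fin n, i < j → (σ i < σ j ↔ σ' i < σ' j) := fun i j hij => by
      rw [h.lt_iff hij, h'.lt_iff hij]
      exact forall₂_congr fun k k' => forall_congr' fun hk => forall₂_congr fun _ _ => hasc k k' hk
    intro i j
    rcases lt_trichotomy i j with hij | rfl | hij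
    · exact key i j hij
    · simp
    · have := not_congr (key j i hij)
      rw [not_lt, not_lt] at this
      exact ⟨fun hl => lt_of_le_of_ne (this.1 hl.le) fun e => hij.ne' (σ'.injective e),
        fun hl => lt_of_le_of_ne (this.2 hl.le) fun e => hij.ne' (σ.injective e)⟩
  have hmono : StrictMono (σ' ∘ σ.symm) := fun a b hab =>
    (hiff _ _).1 (by simpa using hab)
  have := hmono.range_inj strictMono_id
  have hid : σ' ∘ σ.symm = id := this.1 (by
    rw [Set.range_id, Set.range_eq_univ]
    exact σ'.surjective.comp σ.symm.surjective)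
  exact Equiv.ext fun i => by simpa using (congrFun hid (σ i)).symm

theorem rev_involutive (h : Relevant σ t) (i : Fin n) :
    Fin.rev (σ (Fin.rev (σ i))) = i ∧ t (Fin.rev (σ i)) = t i := by
  -- positions on either side of a descent are reversed
  have hsep : ∀ d d' : Fin n, d'.val = d.val + 1 → ¬ σ d < σ d' →
      ∀ b, b ≤ d → Fin.rev (σ b) ≤ d := by
    intro d d' hd hdesc b hb
    have hle : Finset.Ioi d ⊆ Finset.univ.filter fun c => Fin.rev (σ b) < Fin.rev (σ c) := by
      intro c hc
      rw [Finset.mem_Ioi] at hc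
      rw [Finset.mem_filter]
      refine ⟨Finset.mem_univ _, Fin.rev_lt_rev.2 ?_⟩
      have hbc : b < c := hb.trans_lt hc
      refine lt_of_le_of_ne (not_lt.1 fun hlt => hdesc ?_) fun e => hbc.ne' (σ.injective e)
      exact ((h.lt_iff hbc).1 hlt) d d' hd hb (Fin.le_def.2 (by have := Fin.lt_def.1 hc; omega))
    have hcard := Finset.card_le_card hle
    rw [Fin.card_Ioi, Finset.card_equiv (t := Finset.Ioi (Fin.rev (σ b))) (σ.trans Fin.revPerm)
      (fun c => by simp), Fin.card_Ioi] at hcard
    rw [Fin.le_def]
    omega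
  let v : Fin n → Fin n := fun a => Fin.rev (σ a)
  have hinj : Function.Injective v := fun a b e => σ.injective (Fin.rev_injective e)
  let D : Finset (Fin n) := Finset.univ.filter fun d =>
    ∃ d' : Fin n, d'.val = d.val + 1 ∧ ¬ σ d < σ d'
  have hside : ∀ d ∈ D, ∀ a, v a ≤ d ↔ a ≤ d := by
    intro d hd a
    obtain ⟨d', hd', hdesc⟩ := (Finset.mem_filter.1 hd).2
    refine ⟨fun hva => ?_, hsep d d' hd' hdesc a⟩
    obtain ⟨b, hb, hb'⟩ := Finset.surj_on_of_inj_on_of_card_le (s := Finset.Iic d)
      (t := Finset.Iic d) (fun b _ => v b)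
      (fun b hb => Finset.mem_Iic.2 (hsep d d' hd' hdesc b (Finset.mem_Iic.1 hb)))
      (fun b c _ _ e => hinj e) le_rfl (v a) (Finset.mem_Iic.2 hva)
    rw [hinj hb']
    exact Finset.mem_Iic.1 hb
  let r : Fin n → Finset (Fin n) := fun a => D.filter (· < a)
  have hr : ∀ a, r (v a) = r a := fun a => by
    ext d
    simp only [r, Finset.mem_filter]
    refine and_congr_right fun hd => ?_
    rw [← not_le, ← not_le, hside d hd a]
  have hrun : ∀ a b, a < b → (σ a < σ b ↔ r a = r b) := by
    intro a b hab
    rw [h.lt_iff hab]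
    constructor
    · intro hall
      ext d
      simp only [r, Finset.mem_filter]
      refine and_congr_right fun hd => ⟨fun hda => hda.trans hab, fun hdb => ?_⟩
      obtain ⟨d', hd', hdesc⟩ := (Finset.mem_filter.1 hd).2
      by_contra hda
      exact hdesc (hall d d' hd' (not_lt.1 hda)
        (Fin.le_def.2 (by have := Fin.lt_def.1 hdb; omega)))
    · intro heq k k' hk hak hkb
      by_contra hdesc
      have hmem : k ∈ r b := Finset.mem_filter.2
        ⟨Finset.mem_filter.2 ⟨Finset.mem_univ _, k', hk, hdesc⟩,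
          Fin.lt_def.2 (by have := Fin.le_def.1 hkb; omega)⟩
      rw [← heq] at hmem
      exact not_lt.2 hak (Finset.mem_filter.1 hmem).2
  have hmono : StrictMono (v ∘ v) := by
    intro a b hab
    have hne : σ a ≠ σ b := σ.injective.ne hab.ne
    by_cases hlt : σ a < σ b
    · have hv : v b < v a := Fin.rev_lt_rev.2 hlt
      refine Fin.rev_lt_rev.2 ((hrun _ _ hv).2 ?_)
      rw [hr, hr, (hrun a b hab).1 hlt]
    · have hv : v a < v b := Fin.rev_lt_rev.2 (lt_of_le_of_ne (not_lt.1 hlt) hne.symm)
      refine Fin.rev_lt_rev.2 (lt_of_le_of_ne (not_lt.1 fun hc => hlt ?_) (σ.injective.ne hv.ne'))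
      have := (hrun _ _ hv).1 hc
      rw [hr, hr] at this
      exact (hrun a b hab).2 this
  refine ⟨?_, ?_⟩
  · have hid := (hmono.range_inj strictMono_id).1 (by
      rw [Set.range_id, Set.range_eq_univ]
      exact (Finite.surjective_of_injective hinj).comp (Finite.surjective_of_injective hinj))
    exact congrFun hid i
  · rcases lt_trichotomy i (v i) with hi | hi | hi
    · exact (h.succ_of_lt hi ((hrun _ _ hi).2 (hr i).symm)).2
    · exact congrArg t hi.symm
    · exact (h.succ_of_lt hi ((hrun _ _ hi).2 (hr i))).2.symm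

end Relevant

open Classical in
/-- The number of relevant monomial matrices. -/
theorem card_relData (m : ℕ) :
    Fintype.card (RelData (m + 1) F) = (Fintype.card F - 1) * Fintype.card F ^ m := by
  let pr : Fin (m + 1) → Fin (m + 1) := fun i => ⟨i.val - 1, by omega⟩
  have hpr : ∀ i : Fin (m + 1), i ≠ 0 → i.val = (pr i).val + 1 := fun i hi => by
    have : i.val ≠ 0 := fun h => hi (Fin.ext h)
    simp [pr]; omega
  let Φ : RelData (m + 1) F → {c : Fin (m + 1) → F // c 0 ≠ 0} := fun x =>
    ⟨fun i => if i = 0 then (x.1.2 i : F) else if x.1.1 (pr i) < x.1.1 i then 0 else (x.1.2 i : F),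
      by simp⟩
  have hzero : ∀ x i, i ≠ 0 → ((Φ x).1 i = 0 ↔ x.1.1 (pr i) < x.1.1 i) := fun x i hi => by
    simp [Φ, hi]
  have hinj : Function.Injective Φ := by
    intro x y hxy
    have hσ : x.1.1 = y.1.1 := by
      refine Relevant.ext_of_ascents (t := x.1.2) (t' := y.1.2) x.2 y.2 fun i j hj => ?_
      have hj0 : j ≠ 0 := fun h => by subst h; simp at hj
      have hi : pr j = i := Fin.ext (by simp [pr]; omega)
      rw [← hi, ← hzero x j hj0, ← hzero y j hj0, hxy]
    refine Subtype.ext (Prod.ext hσ (funext fun i => ?_))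
    induction i using Fin.induction with
    | zero => exact Units.ext (congrFun (congrArg Subtype.val hxy) 0)
    | succ i ih =>
      have hp : pr i.succ = i.castSucc := Fin.ext (by simp [pr])
      have he := congrFun (congrArg Subtype.val hxy) i.succ
      simp only [Φ, Fin.succ_ne_zero, if_false, hp] at he
      by_cases hlt : x.1.1 i.castSucc < x.1.1 i.succ
      · rw [(x.2 i.castSucc i.succ (by simp) hlt).2, (y.2 i.castSucc i.succ (by simp) (hσ ▸ hlt)).2, ih]
      · rw [if_neg hlt, if_neg (hσ ▸ hlt)] at he
        exact Units.ext he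
  have hsurj : Function.Surjective Φ := by
    rintro ⟨c, hc⟩
    let st : Fin (m + 1) → Fin (m + 1) := fun i =>
      ((Finset.Iic i).filter fun j => c j ≠ 0).max'
        ⟨0, Finset.mem_filter.2 ⟨Finset.mem_Iic.2 (Fin.zero_le _), hc⟩⟩
    have hst : ∀ i, c (st i) ≠ 0 := fun i =>
      (Finset.mem_filter.1 (Finset.max'_mem ((Finset.Iic i).filter fun j => c j ≠ 0) _)).2
    let r : Fin (m + 1) → ℕ := fun i => ((Finset.Iic i).filter fun j => c j ≠ 0).card
    have hrle : ∀ i, r i ≤ m + 1 := fun i => (Finset.card_le_univ _).trans_eq (Fintype.card_fin _)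
    let key : Fin (m + 1) → ℕ := fun i => (m + 1 - r i) * (m + 1) + i.val
    have hfilter0 : ∀ i : Fin (m + 1), i ≠ 0 → c i = 0 →
        (Finset.Iic i).filter (fun j => c j ≠ 0) = (Finset.Iic (pr i)).filter fun j => c j ≠ 0 := by
      intro i hi h0
      ext j
      simp only [Finset.mem_filter, Finset.mem_Iic, and_congr_left_iff, Fin.le_def]
      intro hj
      have : j ≠ i := fun h => hj (h ▸ h0)
      have := Fin.val_ne_of_ne this
      have := hpr i hi
      omega
    have hr1 : ∀ i : Fin (m + 1), i ≠ 0 → c i ≠ 0 → r i = r (pr i) + 1 := by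
      intro i hi hne
      show Finset.card _ = Finset.card _ + 1
      rw [show (Finset.Iic i).filter (fun j => c j ≠ 0) =
        insert i ((Finset.Iic (pr i)).filter fun j => c j ≠ 0) by
          ext j
          simp only [Finset.mem_filter, Finset.mem_Iic, Finset.mem_insert, Fin.le_def, Fin.ext_iff]
          have := hpr i hi
          constructor
          · rintro ⟨h1, h2⟩
            by_cases h : j.val = i.val
            · exact Or.inl h
            · exact Or.inr ⟨by omega, h2⟩
          · rintro (h | ⟨h1, h2⟩)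
            · exact ⟨h.le, (Fin.ext h : j = i) ▸ hne⟩
            · exact ⟨by omega, h2⟩]
      rw [Finset.card_insert_of_notMem]
      intro h
      have := Fin.le_def.1 (Finset.mem_Iic.1 (Finset.mem_filter.1 h).1)
      have := hpr i hi
      omega
    have hkinj : Function.Injective key := by
      intro a b hab
      have := congrArg (· % (m + 1)) hab
      simp only [key, Nat.mul_add_mod_self_right, Nat.mod_eq_of_lt a.isLt,
        Nat.mod_eq_of_lt b.isLt] at this
      exact Fin.ext this
    have hsm : StrictMono (key ∘ Tuple.sort key) :=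
      (Tuple.monotone_sort key).strictMono_of_injective (hkinj.comp (Equiv.injective _))
    let σ : Equiv.Perm (Fin (m + 1)) := (Tuple.sort key)⁻¹
    have hlt : ∀ a b, σ a < σ b ↔ key a < key b := fun a b => by
      have := hsm.lt_iff_lt (a := σ a) (b := σ b)
      simpa [σ] using this.symm
    have hasc : ∀ i : Fin (m + 1), i ≠ 0 → (σ (pr i) < σ i ↔ c i = 0) := by
      intro i hi
      rw [hlt]
      constructor
      · intro hk
        by_contra hne
        simp only [key, hr1 i hi hne] at hk
        have hle := hrle i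
        rw [hr1 i hi hne] at hle
        rw [show m + 1 - r (pr i) = (m + 1 - (r (pr i) + 1)) + 1 by omega, Nat.succ_mul] at hk
        have := i.isLt
        omega
      · intro h0
        have hr : r i = r (pr i) := congrArg Finset.card (hfilter0 i hi h0)
        simp only [key, hr]
        have := hpr i hi
        omega
    let t : Fin (m + 1) → Fˣ := fun i => Units.mk0 (c (st i)) (hst i)
    refine ⟨⟨(σ, t), fun i j hj hij => ?_⟩, Subtype.ext (funext fun i => ?_)⟩
    · have hj0 : j ≠ 0 := fun h => by subst h; simp at hj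
      have hp : pr j = i := Fin.ext (by simp [pr]; omega)
      have h0 : c j = 0 := (hasc j hj0).1 (hp.symm ▸ hij)
      have hkey : key j = key i + 1 := by
        have hr : r j = r (pr j) := congrArg Finset.card (hfilter0 j hj0 h0)
        simp only [key, hr, hp]
        omega
      refine ⟨?_, Units.ext ?_⟩
      · show (σ j).val = (σ i).val + 1
        by_contra hne
        have h1 : (σ i).val < (σ j).val := Fin.lt_def.1 hij
        let k : Fin (m + 1) := ⟨(σ i).val + 1, by have := (σ j).isLt; omega⟩
        have h2 : σ i < k := Fin.lt_def.2 (Nat.lt_succ_self _)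
        have h3 : k < σ j := Fin.lt_def.2 (by simp only [k]; omega)
        obtain ⟨a, ha⟩ := σ.surjective k
        rw [← ha, hlt] at h2 h3
        omega
      · show c (st j) = c (st i)
        congr 1
        simp only [st, hfilter0 j hj0 h0, hp]
    · have hstself : c i ≠ 0 → st i = i := fun hne =>
        le_antisymm
          (Finset.mem_Iic.1
            (Finset.mem_filter.1 (Finset.max'_mem ((Finset.Iic i).filter fun j => c j ≠ 0) _)).1)
          (Finset.le_max' ((Finset.Iic i).filter fun j => c j ≠ 0) i
            (Finset.mem_filter.2 ⟨Finset.mem_Iic.2 le_rfl, hne⟩))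
      simp only [Φ]
      by_cases hi : i = 0
      · subst hi
        simp [t, hstself hc]
      · rw [if_neg hi]
        by_cases h0 : c i = 0
        · rw [if_pos ((hasc i hi).2 h0), h0]
        · rw [if_neg (fun h => h0 ((hasc i hi).1 h))]
          simp [t, hstself h0]
  rw [Fintype.card_of_bijective ⟨hinj, hsurj⟩]
  let e : {c : Fin (m + 1) → F // c 0 ≠ 0} ≃ {x : F // x ≠ 0} × (Fin m → F) :=
    { toFun := fun c => (⟨c.1 0, c.2⟩, Fin.tail c.1)
      invFun := fun x => ⟨Fin.cons x.1.1 x.2, by simpa using x.1.2⟩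
      left_inv := fun c => Subtype.ext (by simp)
      right_inv := fun x => by simp }
  rw [Fintype.card_congr e, Fintype.card_prod, Fintype.card_fun, Fintype.card_fin,
    Fintype.card_subtype_compl, Fintype.card_subtype_eq]

end Cfsg.Agent.GLCusp57
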