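import Cfsg.Agent.GLCusp57.Derivative
import Cfsg.Agent.GLCusp57.Relevant

/-! The Gelfand–Graev character: multiplicity one and the number of its constituents. -/

set_option autoImplicit false
set_option linter.unusedSectionVars false

open Matrix
open scoped MatrixGroups ComplexConjugate
open Cfsg

namespace Cfsg.Agent.GLCusp57

variable {F : Type*} [Field F] [Fintype F] [DecidableEq F] {n : ℕ}

open scoped Classical

/-- The character of the unitriangular group. -/
noncomputable def psiChar (ψ : AddChar F ℂ) : unitri n F → ℂ := fun u => psiU ψ (u : GL (Fin n) F)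

theorem isClassFunction_psiChar (ψ : AddChar F ℂ) : IsClassFunction (unitri n F) (psiChar ψ) := by
  intro g h
  simp only [psiChar, Subgroup.coe_mul, Subgroup.coe_inv]
  rw [psiU_mul ψ (mul_mem h.2 g.2) (inv_mem h.2), psiU_mul ψ h.2 g.2,
    mul_comm (psiU ψ (h : GL (Fin n) F)), mul_assoc, ← psiU_mul ψ h.2 (inv_mem h.2)]
  simp [psiU_one]

/-- The Gelfand–Graev character. -/
noncomputable def gg (n : ℕ) (ψ : AddChar F ℂ) : GL (Fin n) F → ℂ :=
  indFun (unitri n F) (psiChar ψ)

theorem classInner_gg {χ : GL (Fin n) F → ℂ} (hχ : IsClassFunction _ χ) (ψ : AddChar F ℂ) :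
    classInner χ (gg n ψ) = whittaker χ ψ := by
  rw [gg, CharInd.classInner_indFun_right _ _ hχ, classInner, whittaker]
  rfl

theorem psiU_mul_conj (ψ : AddChar F ℂ) (g : GL (Fin n) F) : psiU ψ g * conj (psiU ψ g) = 1 :=
  addChar_mul_conj ψ _

/-- The element `1 + a E_{pq}` for `p ≠ q`. -/
def elem (p q : Fin n) (hpq : p ≠ q) (a : F) : GL (Fin n) F :=
  ⟨1 + Matrix.single p q a, 1 - Matrix.single p q a,
    by simp [add_mul, mul_sub, hpq.symm], by simp [sub_mul, mul_add, hpq.symm]⟩

theorem elem_apply (p q : Fin n) (hpq : p ≠ q) (a : F) (i j : Fin n) :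
    (elem p q hpq a : Matrix (Fin n) (Fin n) F) i j =
      (1 : Matrix (Fin n) (Fin n) F) i j + if p = i ∧ q = j then a else 0 := by
  show (1 + Matrix.single p q a) i j = _
  rw [Matrix.add_apply, Matrix.single_apply]

theorem elem_mem_unitri {p q : Fin n} (hpq : p < q) (a : F) : elem p q hpq.ne a ∈ unitri n F := by
  intro i j hji
  rw [elem_apply, if_neg, add_zero]
  rintro ⟨rfl, rfl⟩
  exact not_lt.2 hji hpq

theorem superSum_elem {p q : Fin n} (hpq : p < q) (a : F) :
    superSum (elem p q hpq.ne a : Matrix (Fin n) (Fin n) F) =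
      if q.val = p.val + 1 then a else 0 := by
  rw [superSum, Finset.sum_eq_single p]
  · by_cases h : p.val + 1 < n
    · rw [dif_pos h, elem_apply, Matrix.one_apply_ne (by simp [Fin.ext_iff]), zero_add]
      simp [Fin.ext_iff]
    · rw [dif_neg h, if_neg]
      intro e; exact h (e ▸ q.isLt)
  · intro b _ hb
    split_ifs with h
    · rw [elem_apply, Matrix.one_apply_ne (by simp [Fin.ext_iff]), if_neg (fun e => hb e.1.symm),
        add_zero]
    · rfl
  · simp

/-- On a relevant monomial matrix the two characters agree. -/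
theorem psiU_conj_relevant (ψ : AddChar F ℂ) {σ : Equiv.Perm (Fin n)} {t : Fin n → Fˣ}
    (h : Relevant σ t) {g : GL (Fin n) F} (hg : g ∈ unitri n F)
    (hg' : (monoGL σ t)⁻¹ * g * monoGL σ t ∈ unitri n F) :
    psiU ψ ((monoGL σ t)⁻¹ * g * monoGL σ t) = psiU ψ g := by
  unfold psiU
  congr 1
  unfold superSum
  rw [← Equiv.sum_comp σ (fun i => if h : i.val + 1 < n then
    (g : Matrix (Fin n) (Fin n) F) i ⟨i.val + 1, h⟩ else 0)]
  refine Finset.sum_congr rfl fun i _ => ?_
  by_cases hi : i.val + 1 < n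
  · set j : Fin n := ⟨i.val + 1, hi⟩ with hj
    rw [dif_pos hi, monoGL_conj_apply]
    by_cases hlt : σ i < σ j
    · obtain ⟨h1, h2⟩ := h i j rfl hlt
      have hσi : (σ i).val + 1 < n := h1 ▸ (σ j).isLt
      rw [dif_pos hσi, show (⟨(σ i).val + 1, hσi⟩ : Fin n) = σ j from Fin.ext h1.symm, h2,
        mul_comm _ ((g : Matrix (Fin n) (Fin n) F) _ _), mul_assoc, Units.inv_mul, mul_one]
    · have hne : σ j ≠ σ i := fun e => by have := congrArg Fin.val (σ.injective e); simp [hj] at this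
      rw [hg _ _ (not_lt.1 hlt), Matrix.one_apply_ne hne.symm, mul_zero, zero_mul]
      split_ifs with hσi
      · obtain ⟨k, hk⟩ := σ.surjective ⟨(σ i).val + 1, hσi⟩
        rw [← hk]
        rcases lt_trichotomy i k with hik | rfl | hik
        · exfalso
          have hik' : σ i < σ k := by rw [hk, Fin.lt_def]; exact Nat.lt_succ_self _
          exact hlt ((h.lt_iff hik).1 hik' i j rfl le_rfl
            (Fin.le_def.2 (by simp [hj]; exact Fin.lt_def.1 hik)))
        · exact absurd (congrArg Fin.val hk) (by simp)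
        · have := hg' i k hik.le
          rw [monoGL_conj_apply, Matrix.one_apply_ne hik.ne', mul_eq_zero, mul_eq_zero] at this
          exact ((this.resolve_right (Units.ne_zero _)).resolve_left (Units.ne_zero _)).symm
      · rfl
  · rw [dif_neg hi]
    split_ifs with hσi
    · obtain ⟨k, hk⟩ := σ.surjective ⟨(σ i).val + 1, hσi⟩
      rw [← hk]
      have hki : k ≤ i := Fin.le_def.2 (by have := k.isLt; omega)
      rcases hki.lt_or_eq with hik | rfl
      · have := hg' i k hik.le
        rw [monoGL_conj_apply, Matrix.one_apply_ne hik.ne', mul_eq_zero, mul_eq_zero] at this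
        exact ((this.resolve_right (Units.ne_zero _)).resolve_left (Units.ne_zero _)).symm
      · exact absurd (congrArg Fin.val hk) (by simp)
    · rfl

/-- An irrelevant monomial matrix moves some element with the wrong character value. -/
theorem exists_witness (ψ : AddChar F ℂ) {σ : Equiv.Perm (Fin n)} {t : Fin n → Fˣ}
    (h : ¬ Relevant σ t) :
    ∃ v : F → GL (Fin n) F, ∃ d : F, d ≠ 0 ∧ ∀ a, v a ∈ unitri n F ∧
      (monoGL σ t)⁻¹ * v a * monoGL σ t ∈ unitri n F ∧
      psiU ψ (v a) * conj (psiU ψ ((monoGL σ t)⁻¹ * v a * monoGL σ t)) = ψ (a * d) := by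
  simp only [Relevant, not_forall] at h
  obtain ⟨i, j, hj, hlt, hbad⟩ := h
  set r : F := ((t i)⁻¹ : Fˣ) * (t j : F) with hr
  set δ : F := if (σ j).val = (σ i).val + 1 then 1 else 0 with hδ
  have hd : δ - r ≠ 0 := by
    intro he
    rw [sub_eq_zero] at he
    by_cases h1 : (σ j).val = (σ i).val + 1
    · refine hbad ⟨h1, Units.ext ?_⟩
      rw [hδ, if_pos h1, hr] at he
      have := congrArg ((t i : F) * ·) he
      simpa [← mul_assoc] using this.symm
    · rw [hδ, if_neg h1] at he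
      exact mul_ne_zero (Units.ne_zero _) (Units.ne_zero _) he.symm
  have hij : i < j := Fin.lt_def.2 (by omega)
  refine ⟨fun a => elem (σ i) (σ j) hlt.ne a, δ - r, hd, fun a => ?_⟩
  have hconj : (monoGL σ t)⁻¹ * elem (σ i) (σ j) hlt.ne a * monoGL σ t =
      elem i j hij.ne (a * r) := by
    apply Units.ext
    ext p q
    rw [monoGL_conj_apply, elem_apply, elem_apply]
    simp only [σ.injective.eq_iff, Matrix.one_apply]
    by_cases h1 : p = q
    · subst h1
      have h2 : ¬ (i = p ∧ j = p) := fun e => hij.ne (e.1.trans e.2.symm)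
      simp [h2]
    · by_cases h2 : i = p ∧ j = q
      · obtain ⟨rfl, rfl⟩ := h2
        simp [h1, hr]
        ring
      · simp [h1, h2]
  refine ⟨elem_mem_unitri hlt a, hconj ▸ elem_mem_unitri hij (a * r), ?_⟩
  rw [hconj, psiU, psiU, superSum_elem hlt, superSum_elem hij, if_pos hj, conj_addChar,
    ← AddChar.map_add_eq_mul, hδ]
  congr 1
  split_ifs <;> ring

open Classical in
theorem mackeySum_mono_eq_zero (ψ : AddChar F ℂ) (hψ : ψ ≠ 1) {σ : Equiv.Perm (Fin n)}
    {t : Fin n → Fˣ} (h : ¬ Relevant σ t) :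
    mackeySum (unitri n F) (unitri n F) (psiChar ψ) (psiChar ψ) (monoGL σ t) = 0 := by
  obtain ⟨v, d, hd, hv⟩ := exists_witness ψ h
  refine mackeySum_eq_zero v (fun a => ⟨(hv a).1, (hv a).2.1⟩) fun g hg hg' => ?_
  set x := monoGL (F := F) σ t
  have : ∀ a, mackeyFun (unitri n F) (unitri n F) (psiChar ψ) (psiChar ψ) x (g * v a) =
      (psiU ψ g * conj (psiU ψ (x⁻¹ * g * x))) * ψ (a * d) := by
    intro a
    rw [← (hv a).2.2]
    have e : x⁻¹ * (g * v a) * x = (x⁻¹ * g * x) * (x⁻¹ * v a * x) := by group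
    rw [mackeyFun_of_mem (mul_mem hg (hv a).1) (e ▸ mul_mem hg' (hv a).2.1)]
    simp only [psiChar]
    rw [psiU_mul ψ hg (hv a).1, e, psiU_mul ψ hg' (hv a).2.1, map_mul]
    ring
  rw [Finset.sum_congr rfl fun a _ => this a, ← Finset.mul_sum,
    AddChar.sum_mulShift d (AddChar.IsPrimitive.of_ne_one hψ), if_neg hd, Nat.cast_zero, mul_zero]

theorem mackeySum_mono_relevant (ψ : AddChar F ℂ) {σ : Equiv.Perm (Fin n)}
    {t : Fin n → Fˣ} (h : Relevant σ t) :
    mackeySum (unitri n F) (unitri n F) (psiChar ψ) (psiChar ψ) (monoGL σ t) =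
      interCard (unitri n F) (unitri n F) (monoGL σ t) := by
  classical
  rw [interCard, Nat.card_eq_fintype_card, Fintype.card_subtype, Finset.natCast_card_filter,
    mackeySum]
  refine Finset.sum_congr rfl fun g _ => ?_
  split_ifs with hg
  · rw [mackeyFun_of_mem hg.1 hg.2]
    simp only [psiChar]
    rw [psiU_conj_relevant ψ h hg.1 hg.2, psiU_mul_conj]
  · exact mackeyFun_eq_zero hg

/-- Monomial matrices lie in distinct double cosets of the unitriangular group. -/
theorem mono_cell_injective {σ σ' : Equiv.Perm (Fin n)} {t t' : Fin n → Fˣ} {p q : GL (Fin n) F}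
    (hp : p ∈ unitri n F) (hq : q ∈ unitri n F)
    (h : monoGL σ' t' = p * monoGL σ t * q) : σ = σ' ∧ t = t' := by
  have h' : p⁻¹ * monoGL σ' t' = monoGL σ t * q := by rw [h]; group
  have hent : ∀ i j, ((p⁻¹ : GL (Fin n) F) : Matrix (Fin n) (Fin n) F) (σ i) (σ' j) * (t' j : F) =
      (t i : F) * (q : Matrix (Fin n) (Fin n) F) i j := by
    intro i j
    have := congrArg (fun z : GL (Fin n) F => (z : Matrix (Fin n) (Fin n) F) (σ i) j) h'
    simp only [Units.val_mul, mul_monoGL_apply, monoGL_mul_apply] at this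
    exact this
  have hle : ∀ i, σ i ≤ σ' i := fun i => by
    by_contra hlt
    rw [not_le] at hlt
    have := hent i i
    rw [inv_mem_iff.2 hp |> fun h => h _ _ hlt.le, Matrix.one_apply_ne hlt.ne', zero_mul,
      hq i i le_rfl, Matrix.one_apply_eq, mul_one] at this
    exact Units.ne_zero _ this.symm
  have heq : σ = σ' := by
    refine Equiv.ext fun i => Fin.ext ?_
    have hsum : ∑ i, (σ i).val = ∑ i, (σ' i).val :=
      (Equiv.sum_comp σ fun i : Fin n => i.val).trans (Equiv.sum_comp σ' fun i : Fin n => i.val).symm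
    exact (Finset.sum_eq_sum_iff_of_le fun j _ => Fin.le_def.1 (hle j)).1 hsum i (Finset.mem_univ i)
  refine ⟨heq, funext fun i => Units.ext ?_⟩
  have := hent i i
  rw [heq, inv_mem_iff.2 hp |> fun h => h _ _ le_rfl, Matrix.one_apply_eq, one_mul,
    hq i i le_rfl, Matrix.one_apply_eq, mul_one] at this
  exact this.symm

/-- The norm of the Gelfand–Graev character. -/
theorem classInner_gg_self (ψ : AddChar F ℂ) (hψ : ψ ≠ 1) :
    classInner (gg n ψ) (gg n ψ) = Fintype.card (RelData n F) := by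
  rw [gg, classInner_indFun_eq_sum (isClassFunction_psiChar ψ) (isClassFunction_psiChar ψ)
    (fun x : RelData n F => monoGL x.1.1 x.1.2)]
  · rw [Finset.sum_congr rfl fun x _ => show mackeyMean _ _ _ _ (monoGL x.1.1 x.1.2) = (1 : ℂ) by
      rw [mackeyMean, mackeySum_mono_relevant ψ x.2, div_self]
      exact Nat.cast_ne_zero.2 (interCard_pos _).ne']
    simp
  · intro x y p hp q hq h
    obtain ⟨h1, h2⟩ := mono_cell_injective hp hq h
    exact Subtype.ext (Prod.ext h1 h2)
  · intro y hy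
    obtain ⟨σ, t, u₁, h₁, u₂, h₂, rfl⟩ := exists_unitri_mono_unitri y
    rw [mackeySum_mul (isClassFunction_psiChar ψ) (isClassFunction_psiChar ψ) (monoGL σ t) ⟨u₁, h₁⟩
      ⟨u₂, h₂⟩] at hy
    by_cases h : Relevant σ t
    · exact ⟨⟨(σ, t), h⟩, u₁, h₁, u₂, h₂, rfl⟩
    · exact absurd (mackeySum_mono_eq_zero ψ hψ h) hy

/-- Transposition about the antidiagonal. -/
def antiT (g : GL (Fin n) F) : GL (Fin n) F :=
  ⟨((g : Matrix (Fin n) (Fin n) F).submatrix Fin.revPerm Fin.revPerm)ᵀ,
    (((g⁻¹ : GL (Fin n) F) : Matrix (Fin n) (Fin n) F).submatrix Fin.revPerm Fin.revPerm)ᵀ,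
    by rw [← Matrix.transpose_mul, Matrix.submatrix_mul_equiv, Units.inv_mul,
      Matrix.submatrix_one_equiv, Matrix.transpose_one],
    by rw [← Matrix.transpose_mul, Matrix.submatrix_mul_equiv, Units.mul_inv,
      Matrix.submatrix_one_equiv, Matrix.transpose_one]⟩

theorem antiT_apply (g : GL (Fin n) F) (i j : Fin n) :
    (antiT g : Matrix (Fin n) (Fin n) F) i j =
      (g : Matrix (Fin n) (Fin n) F) (Fin.rev j) (Fin.rev i) := rfl

theorem antiT_mul (g h : GL (Fin n) F) : antiT (g * h) = antiT h * antiT g := by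
  apply Units.ext
  show ((((g * h : GL (Fin n) F)) : Matrix (Fin n) (Fin n) F).submatrix _ _)ᵀ = _
  rw [Units.val_mul, ← Matrix.submatrix_mul_equiv _ _ _ Fin.revPerm, Matrix.transpose_mul,
    Units.val_mul]
  rfl

theorem antiT_antiT (g : GL (Fin n) F) : antiT (antiT g) = g := by
  apply Units.ext
  ext i j
  rw [antiT_apply, antiT_apply, Fin.rev_rev, Fin.rev_rev]

theorem antiT_mem_unitri {g : GL (Fin n) F} (hg : g ∈ unitri n F) : antiT g ∈ unitri n F := by
  intro i j hji
  rw [antiT_apply, hg _ _ (Fin.rev_le_rev.2 hji)]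
  simp [Matrix.one_apply, eq_comm]

theorem psiU_antiT (ψ : AddChar F ℂ) (g : GL (Fin n) F) : psiU ψ (antiT g) = psiU ψ g := by
  unfold psiU
  congr 1
  unfold superSum
  refine Finset.sum_bij_ne_zero (fun i _ hi => (⟨n - 2 - i.val, by
      by_contra hcon
      have := i.isLt
      omega⟩ : Fin n)) (fun _ _ _ => Finset.mem_univ _) ?_ ?_ ?_
  · intro a _ ha b _ hb hab
    split_ifs at ha hb with h1 h2
    · have := congrArg Fin.val hab
      simp only at this
      exact Fin.ext (by omega)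
    all_goals simp at ha hb
  · intro b _ hb
    split_ifs at hb with h1
    · have key : ((antiT g : GL (Fin n) F) : Matrix (Fin n) (Fin n) F) ⟨n - 2 - b.val, by omega⟩
          ⟨n - 2 - b.val + 1, by omega⟩ = (g : Matrix (Fin n) (Fin n) F) b ⟨b.val + 1, h1⟩ := by
        rw [antiT_apply]
        have e1 : Fin.rev (⟨n - 2 - b.val + 1, by omega⟩ : Fin n) = b :=
          Fin.ext (by rw [Fin.val_rev]; dsimp only; omega)
        have e2 : Fin.rev (⟨n - 2 - b.val, by omega⟩ : Fin n) = ⟨b.val + 1, h1⟩ :=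
          Fin.ext (by rw [Fin.val_rev]; dsimp only; omega)
        rw [e1, e2]
      refine ⟨⟨n - 2 - b.val, by omega⟩, Finset.mem_univ _, ?_, Fin.ext (by simp; omega)⟩
      rw [dif_pos (show n - 2 - b.val + 1 < n by omega), key]
      exact hb
    · simp at hb
  · intro a _ ha
    split_ifs at ha with h1
    · rw [dif_pos h1, dif_pos (show (n - 2 - a.val) + 1 < n by omega), antiT_apply]
      have e1 : Fin.rev (⟨a.val + 1, h1⟩ : Fin n) = ⟨n - 2 - a.val, by omega⟩ :=
        Fin.ext (by rw [Fin.val_rev]; dsimp only; omega)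
      have e2 : Fin.rev a = ⟨n - 2 - a.val + 1, by omega⟩ :=
        Fin.ext (by rw [Fin.val_rev]; dsimp only; omega)
      rw [e1, e2]
    · simp at ha

theorem antiT_monoGL {σ : Equiv.Perm (Fin n)} {t : Fin n → Fˣ} (h : Relevant σ t) :
    antiT (monoGL σ t) = monoGL σ t := by
  apply Units.ext
  ext i j
  rw [antiT_apply, monoGL_apply, monoGL_apply]
  obtain ⟨h1, -⟩ := h.rev_involutive j
  obtain ⟨h3, -⟩ := h.rev_involutive (Fin.rev i)
  by_cases hc : σ j = i
  · subst hc
    rw [if_pos rfl, if_pos (Fin.rev_injective (by rw [h1, Fin.rev_rev])), (h.rev_involutive j).2]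
  · rw [if_neg hc, if_neg]
    intro e
    rw [e, Fin.rev_rev] at h3
    exact hc (by rw [← Fin.rev_rev i, ← h3, Fin.rev_rev])

section Rep

variable {V : Type*} [AddCommGroup V] [Module ℂ V] [FiniteDimensional ℂ V]

/-- The projection on the Whittaker vectors. -/
noncomputable def whitProj (ρ : Representation ℂ (GL (Fin n) F) V) (ψ : AddChar F ℂ) :
    Module.End ℂ V :=
  (Nat.card (unitri n F) : ℂ)⁻¹ •
    ∑ u : unitri n F, conj (psiU ψ (u : GL (Fin n) F)) • ρ (u : GL (Fin n) F)

variable (ρ : Representation ℂ (GL (Fin n) F) V) (ψ : AddChar F ℂ)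

theorem whitProj_mul {v : GL (Fin n) F} (hv : v ∈ unitri n F) :
    ρ v * whitProj ρ ψ = psiU ψ v • whitProj ρ ψ ∧
      whitProj ρ ψ * ρ v = psiU ψ v • whitProj ρ ψ := by
  refine ⟨?_, ?_⟩ <;>
    rw [whitProj] <;>
    simp only [mul_smul_comm, smul_mul_assoc, Finset.mul_sum, Finset.sum_mul,
      smul_comm (psiU ψ v), ← map_mul] <;>
    refine congrArg _ ?_ <;> rw [Finset.smul_sum]
  · refine Fintype.sum_equiv (Equiv.mulLeft (⟨v, hv⟩ : unitri n F)) _ _ fun u => ?_
    simp only [Equiv.coe_mulLeft, Subgroup.coe_mul, smul_smul, psiU_mul ψ hv u.2, map_mul]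
    rw [← mul_assoc, psiU_mul_conj, one_mul]
  · refine Fintype.sum_equiv (Equiv.mulRight (⟨v, hv⟩ : unitri n F)) _ _ fun u => ?_
    simp only [Equiv.coe_mulRight, Subgroup.coe_mul, smul_smul, psiU_mul ψ u.2 hv, map_mul]
    rw [mul_comm (conj _) (conj (psiU ψ v)), ← mul_assoc, psiU_mul_conj, one_mul]

theorem whitProj_idem : whitProj ρ ψ * whitProj ρ ψ = whitProj ρ ψ := by
  conv_lhs => arg 1; rw [whitProj]
  rw [smul_mul_assoc, Finset.sum_mul, Finset.sum_congr rfl fun u _ => show _ = whitProj ρ ψ by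
    rw [smul_mul_assoc, (whitProj_mul ρ ψ u.2).1, smul_smul, mul_comm, psiU_mul_conj, one_smul],
    Finset.sum_const, Finset.card_univ, ← Nat.cast_smul_eq_nsmul ℂ, smul_smul,
    Nat.card_eq_fintype_card, inv_mul_cancel₀ (Nat.cast_ne_zero.2 Fintype.card_ne_zero), one_smul]

/-- The compressed operator of a group element. -/
noncomputable def heckeOp (g : GL (Fin n) F) : Module.End ℂ V :=
  whitProj ρ ψ * ρ g * whitProj ρ ψ

theorem heckeOp_antiT (hψ : ψ ≠ 1) (g : GL (Fin n) F) : heckeOp ρ ψ (antiT g) = heckeOp ρ ψ g := by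
  have hmul : ∀ u x v, u ∈ unitri n F → v ∈ unitri n F →
      heckeOp ρ ψ (u * x * v) = (psiU ψ u * psiU ψ v) • heckeOp ρ ψ x := by
    intro u x v hu hv
    rw [heckeOp, map_mul, map_mul, mul_assoc (ρ u), ← mul_assoc (whitProj ρ ψ),
      (whitProj_mul ρ ψ hu).2, mul_assoc, mul_assoc, (whitProj_mul ρ ψ hv).1]
    simp only [heckeOp, smul_mul_assoc, mul_smul_comm, smul_smul, mul_assoc]
    rw [mul_comm (psiU ψ v)]
  obtain ⟨σ, t, u₁, h₁, u₂, h₂, rfl⟩ := exists_unitri_mono_unitri g
  rw [antiT_mul, antiT_mul, ← mul_assoc, hmul _ _ _ (antiT_mem_unitri h₂) (antiT_mem_unitri h₁),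
    hmul _ _ _ h₁ h₂, psiU_antiT, psiU_antiT, mul_comm (psiU ψ u₂)]
  by_cases h : Relevant σ t
  · rw [antiT_monoGL h]
  · obtain ⟨v, d, hd, hv⟩ := exists_witness ψ h
    have hzero : heckeOp ρ ψ (monoGL σ t) = 0 := by
      obtain ⟨a, ha⟩ : ∃ a, ψ (a * d) ≠ 1 := by
        by_contra hall
        simp only [not_exists, not_not] at hall
        refine hψ (DFunLike.ext _ _ fun x => ?_)
        have := hall (x * d⁻¹)
        rw [mul_assoc, inv_mul_cancel₀ hd, mul_one] at this
        rw [this, AddChar.one_apply]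
      obtain ⟨hv1, hv2, hv3⟩ := hv a
      have e1 := hmul (v a) (monoGL σ t) 1 hv1 (one_mem _)
      have e2 := hmul 1 (monoGL σ t) _ (one_mem _) hv2
      rw [mul_one, psiU_one, mul_one] at e1
      rw [one_mul, psiU_one, one_mul, ← mul_assoc, ← mul_assoc, mul_inv_cancel, one_mul, e1,
        ← sub_eq_zero, ← sub_smul, smul_eq_zero] at e2
      refine e2.resolve_left fun he => ha ?_
      rw [← hv3, sub_eq_zero.1 he, psiU_mul_conj]
    have hzero' : heckeOp ρ ψ (antiT (monoGL σ t)) = 0 := by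
      obtain ⟨a, ha⟩ : ∃ a, ψ (a * d) ≠ 1 := by
        by_contra hall
        simp only [not_exists, not_not] at hall
        refine hψ (DFunLike.ext _ _ fun x => ?_)
        have := hall (x * d⁻¹)
        rw [mul_assoc, inv_mul_cancel₀ hd, mul_one] at this
        rw [this, AddChar.one_apply]
      obtain ⟨hv1, hv2, hv3⟩ := hv a
      set w := (monoGL σ t)⁻¹ * v a * monoGL σ t with hw
      have e1 := hmul 1 (antiT (monoGL σ t)) _ (one_mem _) (antiT_mem_unitri hv1)
      have e2 := hmul _ (antiT (monoGL σ t)) 1 (antiT_mem_unitri hv2) (one_mem _)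
      rw [one_mul, psiU_one, one_mul, psiU_antiT, ← antiT_mul] at e1
      rw [mul_one, psiU_one, mul_one, psiU_antiT, ← antiT_mul,
        show monoGL σ t * w = v a * monoGL σ t by rw [hw]; group, e1,
        ← sub_eq_zero, ← sub_smul, smul_eq_zero] at e2
      refine e2.resolve_left fun he => ha ?_
      rw [← hv3, sub_eq_zero.1 he, psiU_mul_conj]
    rw [hzero, hzero']

theorem heckeOp_comm (hψ : ψ ≠ 1) (g h : GL (Fin n) F) :
    heckeOp ρ ψ g * heckeOp ρ ψ h = heckeOp ρ ψ h * heckeOp ρ ψ g := by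
  have hexp : ∀ a b : GL (Fin n) F, heckeOp ρ ψ a * heckeOp ρ ψ b =
      (Nat.card (unitri n F) : ℂ)⁻¹ •
        ∑ u : unitri n F, conj (psiU ψ (u : GL (Fin n) F)) • heckeOp ρ ψ (a * u * b) := by
    intro a b
    have e : heckeOp ρ ψ a * heckeOp ρ ψ b =
        whitProj ρ ψ * ρ a * whitProj ρ ψ * ρ b * whitProj ρ ψ := by
      simp only [heckeOp, ← mul_assoc]
      rw [mul_assoc (whitProj ρ ψ * ρ a) (whitProj ρ ψ) (whitProj ρ ψ), whitProj_idem]
    rw [e]
    conv_lhs => arg 1; arg 1; arg 2; rw [whitProj]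
    simp only [mul_smul_comm, smul_mul_assoc, Finset.mul_sum, Finset.sum_mul]
    simp only [heckeOp, map_mul, mul_assoc]
  conv_rhs => rw [← heckeOp_antiT ρ ψ hψ h, ← heckeOp_antiT ρ ψ hψ g]
  rw [hexp g h, hexp (antiT h) (antiT g)]
  congr 1
  refine Fintype.sum_equiv
    { toFun := fun u => ⟨_, antiT_mem_unitri u.2⟩
      invFun := fun u => ⟨_, antiT_mem_unitri u.2⟩
      left_inv := fun u => Subtype.ext (antiT_antiT _)
      right_inv := fun u => Subtype.ext (antiT_antiT _) } _ _ fun u => ?_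
  show _ = conj (psiU ψ (antiT u.1)) • heckeOp ρ ψ (antiT h * antiT u.1 * antiT g)
  rw [psiU_antiT, ← heckeOp_antiT ρ ψ hψ (g * u.1 * h), antiT_mul, antiT_mul]
  simp only [mul_assoc]

theorem sum_apply_smul_rep [ρ.IsIrreducible] (l : V →ₗ[ℂ] ℂ) (w v : V) :
    ∑ g : GL (Fin n) F, l (ρ g⁻¹ v) • ρ g w =
      ((Nat.card (GL (Fin n) F) : ℂ) * l w / Module.finrank ℂ V) • v := by
  let T : Module.End ℂ V := ∑ g : GL (Fin n) F, (l ∘ₗ ρ g⁻¹).smulRight (ρ g w)
  have hT : ∀ x, T x = ∑ g : GL (Fin n) F, l (ρ g⁻¹ x) • ρ g w := fun x => by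
    simp [T, LinearMap.sum_apply]
  have hcomm : ∀ h, T ∘ₗ ρ h = ρ h ∘ₗ T := fun h => by
    ext x
    simp only [LinearMap.comp_apply, hT, map_sum, map_smul]
    refine Fintype.sum_equiv (Equiv.mulLeft h⁻¹) _ _ fun g => ?_
    simp only [Equiv.coe_mulLeft, _root_.mul_inv_rev, inv_inv, map_mul, Module.End.mul_apply]
    rw [← Module.End.mul_apply (ρ h) (ρ h⁻¹), ← map_mul, mul_inv_cancel, map_one,
      Module.End.one_apply]
  obtain ⟨c, hc⟩ :=
    (Representation.IsIrreducible.algebraMap_intertwiningMap_bijective_of_isAlgClosed (k := ℂ)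
      (ρ := ρ)).2 ⟨T, hcomm⟩
  have hc' : T = c • (1 : Module.End ℂ V) := by
    have h := congrArg Representation.IntertwiningMap.toLinearMap hc.symm
    simpa [Representation.IntertwiningMap.toLinearMap_smul] using! h
  have htr : LinearMap.trace ℂ V T = (Nat.card (GL (Fin n) F) : ℂ) * l w := by
    simp only [T, map_sum, LinearMap.trace_smulRight, LinearMap.comp_apply]
    rw [Finset.sum_congr rfl fun g _ => by
      rw [← Module.End.mul_apply, ← map_mul, inv_mul_cancel, map_one, Module.End.one_apply],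
      Finset.sum_const, Finset.card_univ, nsmul_eq_mul, Nat.card_eq_fintype_card]
  have hd : (Module.finrank ℂ V : ℂ) ≠ 0 :=
    Nat.cast_ne_zero.2 (CharCore.finrank_pos_of_irreducible ρ).ne'
  rw [hc', map_smul, LinearMap.trace_one, smul_eq_mul] at htr
  rw [← hT, hc', ← htr, mul_div_cancel_right₀ c hd]
  rfl

theorem finrank_range_whitProj_le [ρ.IsIrreducible] (hψ : ψ ≠ 1) :
    Module.finrank ℂ (LinearMap.range (whitProj ρ ψ)) ≤ 1 := by
  set P := whitProj ρ ψ with hP
  by_contra hcon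
  rw [not_le] at hcon
  let b := Module.finBasis ℂ (LinearMap.range P)
  let i0 : Fin (Module.finrank ℂ (LinearMap.range P)) := ⟨0, by omega⟩
  let i1 : Fin (Module.finrank ℂ (LinearMap.range P)) := ⟨1, hcon⟩
  have hfix : ∀ x : LinearMap.range P, P x = x := by
    rintro ⟨x, y, rfl⟩
    exact LinearMap.congr_fun (whitProj_idem ρ ψ) y
  let l : Fin (Module.finrank ℂ (LinearMap.range P)) → V →ₗ[ℂ] ℂ := fun i =>
    b.coord i ∘ₗ P.rangeRestrict
  have hl : ∀ i j, l i (b j : V) = if j = i then 1 else 0 := fun i j => by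
    have : P.rangeRestrict (b j : V) = b j := Subtype.ext (hfix (b j))
    simp [l, this, Finsupp.single_apply]
  let R : V → (V →ₗ[ℂ] ℂ) → Module.End ℂ V := fun v m =>
    ∑ g : GL (Fin n) F, m (ρ g⁻¹ v) • heckeOp ρ ψ g
  have hR : ∀ v m y, P y = y → R v m y =
      ((Nat.card (GL (Fin n) F) : ℂ) * m y / Module.finrank ℂ V) • P v := by
    intro v m y hy
    simp only [R, LinearMap.sum_apply, LinearMap.smul_apply, heckeOp, Module.End.mul_apply, ← hP, hy]
    simp only [← map_smul (whitProj ρ ψ), ← map_sum, hP]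
    rw [sum_apply_smul_rep, map_smul]
  have hcomm : ∀ v m v' m', R v m * R v' m' = R v' m' * R v m := by
    intro v m v' m'
    simp only [R, Finset.sum_mul, Finset.mul_sum, smul_mul_assoc, mul_smul_comm, Finset.smul_sum,
      smul_smul]
    rw [Finset.sum_comm]
    exact Finset.sum_congr rfl fun g _ => Finset.sum_congr rfl fun g' _ => by
      rw [heckeOp_comm ρ ψ hψ, mul_comm]
  have h01 : i0 ≠ i1 := by simp [i0, i1, Fin.ext_iff]
  have key := LinearMap.congr_fun (hcomm (b i0) (l i1) (b i1) (l i0)) (b i0 : V)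
  rw [Module.End.mul_apply, Module.End.mul_apply, hR _ _ _ (hfix _), hR _ _ _ (hfix _), hl i0 i0,
    hl i1 i0, hfix, hfix, map_smul, hR _ _ _ (hfix _), hl i1 i1, if_pos rfl, if_neg h01, mul_zero,
    zero_div, zero_smul, map_zero, if_pos rfl, mul_one, smul_smul, smul_eq_zero] at key
  rcases key with h | h
  · have hN : (Nat.card (GL (Fin n) F) : ℂ) ≠ 0 := Nat.cast_ne_zero.2 Nat.card_pos.ne'
    have hd : (Module.finrank ℂ V : ℂ) ≠ 0 :=
      Nat.cast_ne_zero.2 (CharCore.finrank_pos_of_irreducible ρ).ne'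
    exact mul_ne_zero (div_ne_zero hN hd) (div_ne_zero hN hd) h
  · exact b.ne_zero i0 (Subtype.ext ((hfix _).symm.trans h))

theorem whittaker_character : whittaker ρ.character ψ =
    Module.finrank ℂ (LinearMap.range (whitProj ρ ψ)) := by
  have hproj : LinearMap.IsProj (LinearMap.range (whitProj ρ ψ)) (whitProj ρ ψ) := by
    refine ⟨fun x => LinearMap.mem_range_self _ x, fun x hx => ?_⟩
    obtain ⟨y, rfl⟩ := hx
    exact LinearMap.congr_fun (whitProj_idem ρ ψ) y
  rw [← hproj.trace, whitProj, map_smul, map_sum, smul_eq_mul, whittaker]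
  congr 1
  refine Finset.sum_congr (by simp) fun u _ => ?_
  rw [map_smul, smul_eq_mul, mul_comm]
  rfl

end Rep

/-- Multiplicity one. -/
theorem whittaker_irr (χ : IrrCharacter (GL (Fin n) F)) (ψ : AddChar F ℂ) (hψ : ψ ≠ 1) :
    whittaker (χ : GL (Fin n) F → ℂ) ψ = 0 ∨ whittaker (χ : GL (Fin n) F → ℂ) ψ = 1 := by
  obtain ⟨χ, k, ρ, hρ, rfl⟩ := χ
  have := finrank_range_whitProj_le ρ ψ hψ
  rw [whittaker_character ρ ψ]
  rcases Nat.le_one_iff_eq_zero_or_eq_one.1 this with h | h <;> simp [h]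

/-- The number of generic irreducible characters. -/
theorem card_generic (m : ℕ) (ψ : AddChar F ℂ) (hψ : ψ ≠ 1) :
    Nat.card {χ : IrrCharacter (GL (Fin (m + 1)) F) // whittaker (χ : GL (Fin (m + 1)) F → ℂ) ψ = 1} =
      (Fintype.card F - 1) * Fintype.card F ^ m := by
  classical
  have h := CharCore.classInner_eq_sum (f := gg (m + 1) ψ) (f' := gg (m + 1) ψ)
    (CharInd.isClassFunction_indFun _ _) (CharInd.isClassFunction_indFun _ _)
  rw [classInner_gg_self ψ hψ, card_relData] at h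
  have hterm : ∀ χ : IrrCharacter (GL (Fin (m + 1)) F),
      classInner (gg (m + 1) ψ) (χ : GL (Fin (m + 1)) F → ℂ) *
          conj (classInner (gg (m + 1) ψ) (χ : GL (Fin (m + 1)) F → ℂ)) =
        if whittaker (χ : GL (Fin (m + 1)) F → ℂ) ψ = 1 then (1 : ℂ) else 0 := fun χ => by
    rw [← CharCore.conj_classInner, classInner_gg (CharCore.irr_isClassFunction χ), Complex.conj_conj]
    rcases whittaker_irr χ ψ hψ with e | e <;> simp [e]
  simp only [hterm, Finset.sum_boole] at h
  rw [Nat.card_eq_fintype_card, Fintype.card_subtype]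
  exact_mod_cast h.symm

end Cfsg.Agent.GLCusp57
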