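import Cfsg.Agent.GLCusp57.Count
import Mathlib.FieldTheory.Finite.Extension

/-! A lower bound for the number of monic irreducible polynomials of given degree. -/

set_option autoImplicit false
set_option linter.unusedSectionVars false

open Polynomial
open scoped IntermediateField

namespace Cfsg.Agent.GLCusp57

open scoped Classical

theorem totient_le_mul_irrPoly {F : Type*} [Field F] [Fintype F] (n : ℕ) (hn : 2 ≤ n)
    [Finite (IrrPoly F n)] :
    Nat.totient (Fintype.card F ^ n - 1) ≤ n * Nat.card (IrrPoly F n) := by
  obtain ⟨p, _⟩ := CharP.exists F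
  have : Fact p.Prime := ⟨CharP.char_is_prime F p⟩
  have : NeZero n := ⟨by omega⟩
  set E := FiniteField.Extension F p n with hE
  have : Fintype E := Fintype.ofFinite E
  have hcard : Fintype.card E = Fintype.card F ^ n := by
    rw [← Nat.card_eq_fintype_card, ← Nat.card_eq_fintype_card, FiniteField.natCard_extension]
  set N := Fintype.card F ^ n - 1 with hN
  have hunits : Fintype.card Eˣ = N := by rw [Fintype.card_units, hcard]
  let S : Finset Eˣ := Finset.univ.filter fun x => orderOf x = Fintype.card Eˣ
  have hS : S.card = N.totient := by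
    simp only [S]
    rw [IsCyclic.card_orderOf_eq_totient (α := Eˣ) dvd_rfl, hunits]
  have hdeg : ∀ x ∈ S, (minpoly F (x : E)).natDegree = n := by
    intro x hx
    have htop : F⟮(x : E)⟯ = ⊤ := by
      rw [eq_top_iff]
      intro y _
      rcases eq_or_ne y 0 with rfl | hy
      · exact zero_mem _
      have hgen : Subgroup.zpowers x = ⊤ := by
        rw [← Subgroup.card_eq_iff_eq_top, Nat.card_zpowers, (Finset.mem_filter.1 hx).2,
          Nat.card_eq_fintype_card]
      obtain ⟨k, hk⟩ := Subgroup.mem_zpowers_iff.1 (hgen ▸ Subgroup.mem_top (Units.mk0 y hy))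
      have := congrArg (Units.val) hk
      rw [Units.val_zpow_eq_zpow_val, Units.val_mk0] at this
      rw [← this]
      exact zpow_mem (IntermediateField.mem_adjoin_simple_self F (x : E)) k
    have hfr : Module.finrank F F⟮(x : E)⟯ = n := by
      rw [htop, IntermediateField.finrank_top', FiniteField.finrank_extension]
    rwa [IntermediateField.adjoin.finrank (IsIntegral.of_finite F (x : E))] at hfr
  let Φ : S → IrrPoly F n := fun x => ⟨minpoly F (x.1 : E),
    minpoly.monic (IsIntegral.of_finite F _), minpoly.irreducible (IsIntegral.of_finite F _),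
    hdeg x.1 x.2, minpoly.coeff_zero_ne_zero (IsIntegral.of_finite F _) x.1.ne_zero⟩
  have : Fintype (IrrPoly F n) := Fintype.ofFinite _
  rw [← hS, Nat.card_eq_fintype_card, ← Finset.card_attach]
  refine Finset.card_le_mul_card_image_of_maps_to (f := Φ) (t := Finset.univ)
    (fun x _ => Finset.mem_univ _) n fun P _ => ?_
  have hinj : Function.Injective fun x : S => ((x.1 : Eˣ) : E) := fun a b h =>
    Subtype.ext (Units.ext h)
  rw [← Finset.card_image_of_injective _ hinj]
  refine (Finset.card_le_card (t := (P.1.map (algebraMap F E)).roots.toFinset) ?_).trans ?_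
  · intro y hy
    obtain ⟨x, hx, rfl⟩ := Finset.mem_image.1 hy
    have hP : minpoly F (x.1 : E) = P.1 := congrArg Subtype.val (Finset.mem_filter.1 hx).2
    rw [Multiset.mem_toFinset, Polynomial.mem_roots (Polynomial.map_ne_zero P.2.1.ne_zero),
      Polynomial.IsRoot, Polynomial.eval_map, ← Polynomial.aeval_def, ← hP, minpoly.aeval]
  · refine (Multiset.toFinset_card_le _).trans ((Polynomial.card_roots' _).trans ?_)
    rw [Polynomial.natDegree_map, P.2.2.2.1]

end Cfsg.Agent.GLCusp57
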