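import Cfsg.Agent.GLCusp57.Blocks

/-! Inner products of characters induced from cuspidal characters of Levi factors. -/

set_option autoImplicit false
set_option linter.unusedSectionVars false

open Matrix
open scoped MatrixGroups ComplexConjugate
open Cfsg

namespace Cfsg.Agent.GLCusp57

open scoped Classical
open GLFlag (permGL)

variable {F : Type*} [Field F] [Fintype F] [DecidableEq F] {n : ℕ}

theorem perm_conj_apply' (w : Equiv.Perm (Fin n)) (g : GL (Fin n) F) (i j : Fin n) :
    (((permGL F w)⁻¹ * g * permGL F w : GL (Fin n) F) : Matrix (Fin n) (Fin n) F) i j =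
      (g : Matrix (Fin n) (Fin n) F) (w i) (w j) := by
  have h := permGL_conj_apply w⁻¹ g i j
  rwa [map_inv, inv_inv, inv_inv] at h

theorem mackeySum_swap {G : Type*} [Group G] [Fintype G] {P Q : Subgroup G} (θ : P → ℂ)
    (η : Q → ℂ) (x : G) :
    mackeySum Q P η θ x⁻¹ = conj (mackeySum P Q θ η x) := by
  simp only [mackeySum, map_sum]
  refine Fintype.sum_equiv (MulAut.conj x).toEquiv _ _ fun g => ?_
  simp only [mackeyFun, MulEquiv.toEquiv_eq_coe, MulEquiv.coe_toEquiv, MulAut.conj_apply, map_mul,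
    Complex.conj_conj, inv_inv]
  rw [show x⁻¹ * (x * g * x⁻¹) * x = g by group]
  exact mul_comm _ _

/-- An item: a size with an irreducible character. -/
abbrev Item (F : Type*) [Field F] [Fintype F] [DecidableEq F] : Type _ :=
  Σ d : ℕ, IrrCharacter (GL (Fin d) F)

/-- Renumber the coordinates of a matrix group. -/
def moveHom {d d' : ℕ} (π : Fin d' ≃ Fin d) : GL (Fin d) F →* GL (Fin d') F :=
  MonoidHom.toHomUnits
    { toFun := fun m => (m : Matrix (Fin d) (Fin d) F).submatrix π π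
      map_one' := by rw [Units.val_one, Matrix.submatrix_one_equiv]
      map_mul' := fun a b => by rw [Units.val_mul, Matrix.submatrix_mul_equiv] }

theorem classInner_move {d d' : ℕ} (π : Fin d' ≃ Fin d) (χ : IrrCharacter (GL (Fin d) F))
    (χ' : IrrCharacter (GL (Fin d') F)) :
    classInner (χ : GL (Fin d) F → ℂ) (fun m => (χ' : GL (Fin d') F → ℂ) (moveHom π m)) =
      if (⟨d, χ⟩ : Item F) = ⟨d', χ'⟩ then 1 else 0 := by
  obtain rfl : d' = d := by simpa using Fintype.card_congr π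
  have hfun : (fun m => (χ' : GL (Fin d') F → ℂ) (moveHom π m)) = (χ' : GL (Fin d') F → ℂ) := by
    funext m
    rw [show moveHom π m = (permGL F π)⁻¹ * m * permGL F π from
      Units.ext (Matrix.ext fun i j => (perm_conj_apply' π m i j).symm)]
    have h := (CharInd.isClassFunction_of_isCharacter (CharCore.irr_isCharacter χ')) m (permGL F π)⁻¹
    rwa [inv_inv] at h
  rw [hfun, CharCore.classInner_irr]
  by_cases h : χ = χ'
  · rw [if_pos h, if_pos (by rw [h])]
  · rw [if_neg h]
    refine (if_neg ?_).symm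
    intro e
    exact h (eq_of_heq (Sigma.mk.inj_iff.1 e).2)

namespace Blocks

variable (B B' : Blocks n)

/-- The item of a block. -/
def item (c : B.Tuple F) (a : Fin B.k) : Item F := ⟨B.d a, c a⟩

/-- All blocks carry cuspidal characters. -/
def AllCusp (c : B.Tuple F) : Prop := ∀ a, IsCusp ((c a : IrrCharacter (GL (Fin (B.d a)) F)) : GL (Fin (B.d a)) F → ℂ)

/-- A bijection of blocks matching the items. -/
def Match (c : B.Tuple F) (c' : B'.Tuple F) : Type :=
  {σ : Fin B'.k ≃ Fin B.k // ∀ b, B.item c (σ b) = B'.item c' b}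

noncomputable instance (c : B.Tuple F) (c' : B'.Tuple F) : Fintype (Match B B' c c') := by
  unfold Match
  infer_instance

theorem mackeySum_split {c : B.Tuple F} (c' : B'.Tuple F) (hc : B.AllCusp c)
    (w : Equiv.Perm (Fin n)) {a : Fin B.k} {r s : Fin (B.d a)}
    (hne : B'.lab (w⁻¹ (B.pos a r)) < B'.lab (w⁻¹ (B.pos a s))) :
    mackeySum (B.para F) (B'.para F) (B.inflate c) (B'.inflate c') (permGL F w) = 0 := by
  set C : Finset (Fin (B.d a)) :=
    Finset.univ.filter fun t => B'.lab (w⁻¹ (B.pos a t)) ≤ B'.lab (w⁻¹ (B.pos a r)) with hC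
  have hCne : C.Nonempty := ⟨r, by simp [hC]⟩
  have hCne' : C ≠ Finset.univ := fun h => by
    have : s ∈ C := h ▸ Finset.mem_univ s
    simp [hC] at this
    exact not_lt.2 this hne
  let vv : corner F C → B.para F := fun v => B.sec (Pi.mulSingle a v.1)
  have hx : ∀ v i j, (((permGL F w)⁻¹ * (vv v : GL (Fin n) F) * permGL F w : GL (Fin n) F) :
      Matrix (Fin n) (Fin n) F) i j ≠ (1 : Matrix (Fin n) (Fin n) F) i j → B'.lab i < B'.lab j := by
    intro v i j hij
    rw [perm_conj_apply'] at hij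
    have hone : (1 : Matrix (Fin n) (Fin n) F) i j = (1 : Matrix (Fin n) (Fin n) F) (w i) (w j) := by
      simp [Matrix.one_apply]
    rw [hone] at hij
    obtain ⟨b, t, hbt⟩ := B.exists_pos (w i)
    obtain ⟨b', t', hbt'⟩ := B.exists_pos (w j)
    rw [← hbt, ← hbt', coe_sec] at hij
    by_cases hbb : b = b'
    · subst hbb
      rw [levHom_apply_pos] at hij
      by_cases hba : b = a
      · subst hba
        rw [Pi.mulSingle_eq_same] at hij
        by_cases htt : t ∈ C ∧ t' ∉ C
        · simp only [hC, Finset.mem_filter, Finset.mem_univ, true_and, hbt, hbt', not_le,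
            Equiv.Perm.coe_inv, Equiv.symm_apply_apply] at htt
          exact htt.1.trans_lt htt.2
        · refine absurd ?_ hij
          rw [v.2 t t' htt]
          simp [Matrix.one_apply, B.pos_inj]
      · rw [Pi.mulSingle_eq_of_ne hba] at hij
        exact absurd (by simp [Matrix.one_apply, B.pos_inj]) hij
    · rw [levHom_apply_ne _ _ (by simpa using hbb), Matrix.one_apply_ne] at hij
      · exact absurd rfl hij
      · exact fun e => hbb (by simpa using congrArg B.lab e)
  have hQ : ∀ v, (permGL F w)⁻¹ * (vv v : GL (Fin n) F) * permGL F w ∈ B'.para F := by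
    intro v i j hij
    by_contra hne0
    refine not_lt.2 hij.le (hx v i j fun e => hne0 ?_)
    rw [e, Matrix.one_apply_ne]
    rintro rfl
    exact lt_irrefl _ hij
  have hproj : ∀ v, B'.proj ⟨_, hQ v⟩ = 1 := by
    intro v
    funext b
    apply Units.ext
    ext t t'
    rw [proj_apply]
    by_contra hne0
    have := hx v (B'.pos b t) (B'.pos b t') fun e => hne0 (by
      rw [e]; simp [Matrix.one_apply, B'.pos_inj])
    simp at this
  refine mackeySum_eq_zero (fun v => (vv v : GL (Fin n) F)) (fun v => ⟨(vv v).2, hQ v⟩)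
    fun g hg hg' => ?_
  have hterm : ∀ v : corner F C, mackeyFun (B.para F) (B'.para F) (B.inflate c) (B'.inflate c')
      (permGL F w) (g * (vv v : GL (Fin n) F)) =
      ((∏ b ∈ Finset.univ.erase a, (c b : GL (Fin (B.d b)) F → ℂ) (B.proj ⟨g, hg⟩ b)) *
        conj (B'.inflate c' ⟨_, hg'⟩)) *
      (c a : GL (Fin (B.d a)) F → ℂ) (B.proj ⟨g, hg⟩ a * v.1) := by
    intro v
    rw [mackeyFun_of_mem' (x := permGL F w) (g := g * (vv v : GL (Fin n) F))
      (a := ⟨g, hg⟩ * vv v) (b := ⟨_, hg'⟩ * ⟨_, hQ v⟩) rfl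
      (by simp only [Subgroup.coe_mul]; group)]
    have e1 : B'.inflate c' (⟨_, hg'⟩ * ⟨_, hQ v⟩) = B'.inflate c' ⟨_, hg'⟩ := by
      rw [inflate, inflate, map_mul, hproj, mul_one]
    have e2 : B.inflate c (⟨g, hg⟩ * vv v) =
        (c a : GL (Fin (B.d a)) F → ℂ) (B.proj ⟨g, hg⟩ a * v.1) *
          ∏ b ∈ Finset.univ.erase a, (c b : GL (Fin (B.d b)) F → ℂ) (B.proj ⟨g, hg⟩ b) := by
      rw [inflate, piChar, ← Finset.mul_prod_erase _ _ (Finset.mem_univ a), map_mul, B.proj_sec,
        Pi.mul_apply, Pi.mulSingle_eq_same]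
      congr 1
      exact Finset.prod_congr rfl fun b hb => by
        rw [Pi.mul_apply, Pi.mulSingle_eq_of_ne (Finset.ne_of_mem_erase hb), mul_one]
    rw [e1, e2]
    ring
  rw [Finset.sum_congr rfl fun v _ => hterm v, ← Finset.mul_sum,
    (hc a).sum_corner (CharCore.irr_isCharacter _) hCne hCne', mul_zero]

/-- If a Mackey term is non-zero, the permutation maps blocks to blocks. -/
theorem exists_blockMap {c : B.Tuple F} {c' : B'.Tuple F} (hc : B.AllCusp c) (hc' : B'.AllCusp c')
    (w : Equiv.Perm (Fin n))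
    (hne : mackeySum (B.para F) (B'.para F) (B.inflate c) (B'.inflate c') (permGL F w) ≠ 0) :
    ∃ σ : Fin B'.k ≃ Fin B.k, ∀ j, B.lab (w j) = σ (B'.lab j) := by
  have h1 : ∀ a r s, B'.lab (w⁻¹ (B.pos a r)) = B'.lab (w⁻¹ (B.pos a s)) := by
    intro a r s
    rcases lt_trichotomy (B'.lab (w⁻¹ (B.pos a r))) (B'.lab (w⁻¹ (B.pos a s))) with h | h | h
    · exact absurd (B.mackeySum_split B' c' hc w h) hne
    · exact h
    · exact absurd (B.mackeySum_split B' c' hc w h) hne
  have h2 : ∀ b r s, B.lab (w (B'.pos b r)) = B.lab (w (B'.pos b s)) := by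
    have hne' : mackeySum (B'.para F) (B.para F) (B'.inflate c') (B.inflate c) (permGL F w⁻¹) ≠ 0 := by
      rw [map_inv, mackeySum_swap]
      exact fun h => hne (by simpa using congrArg conj h)
    intro b r s
    rcases lt_trichotomy (B.lab (w (B'.pos b r))) (B.lab (w (B'.pos b s))) with h | h | h
    · exact absurd (B'.mackeySum_split B c hc' w⁻¹ (by rwa [inv_inv])) hne'
    · exact h
    · exact absurd (B'.mackeySum_split B c hc' w⁻¹ (by rwa [inv_inv])) hne'
  refine ⟨{ toFun := fun b => B.lab (w (B'.pos b ⟨0, B'.d_pos b⟩))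
            invFun := fun a => B'.lab (w⁻¹ (B.pos a ⟨0, B.d_pos a⟩))
            left_inv := fun b => ?_
            right_inv := fun a => ?_ }, fun j => ?_⟩
  · obtain ⟨s, hs⟩ := B.exists_pos' (i := w (B'.pos b ⟨0, B'.d_pos b⟩)) rfl
    show B'.lab (w⁻¹ (B.pos _ ⟨0, _⟩)) = b
    rw [h1 _ ⟨0, B.d_pos _⟩ s, hs]
    simp
  · obtain ⟨s, hs⟩ := B'.exists_pos' (i := w⁻¹ (B.pos a ⟨0, B.d_pos a⟩)) rfl
    show B.lab (w (B'.pos _ ⟨0, _⟩)) = a
    rw [h2 _ ⟨0, B'.d_pos _⟩ s, hs]
    simp
  · obtain ⟨b, r, rfl⟩ := B'.exists_pos j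
    show _ = B.lab (w (B'.pos (B'.lab (B'.pos b r)) ⟨0, _⟩))
    rw [B'.lab_pos]
    exact h2 b r ⟨0, B'.d_pos b⟩

/-- The permutation of coordinates of a matching of blocks. -/
def blockPerm (σ : Fin B'.k ≃ Fin B.k) (π : ∀ b, Fin (B'.d b) ≃ Fin (B.d (σ b))) :
    Equiv.Perm (Fin n) :=
  B'.e.trans ((Equiv.sigmaCongrRight π).trans
    ((Equiv.sigmaCongrLeft (β := fun a => Fin (B.d a)) σ).trans B.e.symm))

theorem blockPerm_pos (σ : Fin B'.k ≃ Fin B.k) (π : ∀ b, Fin (B'.d b) ≃ Fin (B.d (σ b)))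
    (b : Fin B'.k) (r : Fin (B'.d b)) :
    B.blockPerm B' σ π (B'.pos b r) = B.pos (σ b) (π b r) := by
  simp [blockPerm, pos]

theorem lab_blockPerm (σ : Fin B'.k ≃ Fin B.k) (π : ∀ b, Fin (B'.d b) ≃ Fin (B.d (σ b)))
    (j : Fin n) : B.lab (B.blockPerm B' σ π j) = σ (B'.lab j) := by
  obtain ⟨b, r, rfl⟩ := B'.exists_pos j
  rw [blockPerm_pos, lab_pos, lab_pos]

theorem exists_blockPerm (w : Equiv.Perm (Fin n)) (σ : Fin B'.k ≃ Fin B.k)
    (h : ∀ j, B.lab (w j) = σ (B'.lab j)) :
    ∃ π : ∀ b, Fin (B'.d b) ≃ Fin (B.d (σ b)), w = B.blockPerm B' σ π := by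
  have hex : ∀ b r, ∃ s, B.pos (σ b) s = w (B'.pos b r) := fun b r =>
    B.exists_pos' (by rw [h, lab_pos])
  choose f hf using hex
  have hf' : ∀ b, Function.Bijective (f b) := fun b => by
    refine ⟨fun r r' e => B'.pos_inj.1 (w.injective (by rw [← hf b r, ← hf b r', e])), fun s => ?_⟩
    obtain ⟨r, hr⟩ := B'.exists_pos' (i := w⁻¹ (B.pos (σ b) s)) (a := b) (σ.injective (by
      rw [← h]; simp))
    refine ⟨r, B.pos_inj.1 ?_⟩
    rw [hf, hr]
    simp
  refine ⟨fun b => Equiv.ofBijective _ (hf' b), Equiv.ext fun j => ?_⟩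
  obtain ⟨b, r, rfl⟩ := B'.exists_pos j
  rw [blockPerm_pos]
  exact (hf b r).symm

theorem mackeyMean_blockPerm (c : B.Tuple F) (c' : B'.Tuple F) (σ : Fin B'.k ≃ Fin B.k)
    (π : ∀ b, Fin (B'.d b) ≃ Fin (B.d (σ b))) :
    mackeyMean (B.para F) (B'.para F) (B.inflate c) (B'.inflate c')
        (permGL F (B.blockPerm B' σ π)) =
      if ∀ b, B.item c (σ b) = B'.item c' b then 1 else 0 := by
  set w := B.blockPerm B' σ π with hw
  set x := permGL F w
  let H : Subgroup (GL (Fin n) F) := B.para F ⊓ (B'.para F).comap (MulAut.conj x⁻¹).toMonoidHom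
  have hmem : ∀ g, g ∈ H ↔ g ∈ B.para F ∧ x⁻¹ * g * x ∈ B'.para F := fun g => by
    simp [H, Subgroup.mem_inf, Subgroup.mem_comap]
  let φ : H →* ∀ a, GL (Fin (B.d a)) F := B.proj.comp (Subgroup.inclusion inf_le_left)
  have hφ : Function.Surjective φ := by
    intro m
    refine ⟨⟨(B.sec m : GL (Fin n) F), (hmem _).2 ⟨(B.sec m).2, fun i j hij => ?_⟩⟩, B.proj_sec m⟩
    rw [perm_conj_apply', coe_sec, levHom_apply_ne]
    rw [hw, lab_blockPerm, lab_blockPerm]
    exact σ.injective.ne hij.ne'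
  let f : (∀ a, GL (Fin (B.d a)) F) → ℂ := fun m => piChar c m *
    conj (∏ b, (c' b : GL (Fin (B'.d b)) F → ℂ) (moveHom (π b) (m (σ b))))
  have hsum : mackeySum (B.para F) (B'.para F) (B.inflate c) (B'.inflate c') x = ∑ h : H, f (φ h) := by
    rw [mackeySum, ← Finset.sum_subset (Finset.subset_univ (Finset.univ.filter (· ∈ H)))
      (fun g _ hg => mackeyFun_eq_zero fun h => hg (by simpa using (hmem g).2 h)),
      Finset.sum_subtype (p := (· ∈ H)) _ (fun g => by simp)]
    refine Finset.sum_congr rfl fun h _ => ?_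
    obtain ⟨h1, h2⟩ := (hmem h.1).1 h.2
    rw [mackeyFun_of_mem h1 h2]
    show _ * conj (piChar c' (B'.proj ⟨_, h2⟩)) = _
    have : ∀ b, B'.proj ⟨_, h2⟩ b = moveHom (π b) (B.proj ⟨h.1, h1⟩ (σ b)) := fun b => by
      apply Units.ext
      ext r s
      rw [proj_apply, perm_conj_apply', hw, blockPerm_pos, blockPerm_pos]
      rfl
    simp only [piChar, this]
    rfl
  have hinter : interCard (B.para F) (B'.para F) x = Fintype.card H := by
    rw [interCard, Nat.card_eq_fintype_card]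
    exact Fintype.card_congr (Equiv.subtypeEquivRight fun g => (hmem g).symm)
  have hL : (Fintype.card (∀ a, GL (Fin (B.d a)) F) : ℂ) ≠ 0 :=
    Nat.cast_ne_zero.2 Fintype.card_ne_zero
  have hH : (Fintype.card H : ℂ) ≠ 0 := Nat.cast_ne_zero.2 Fintype.card_ne_zero
  have hmain := sum_comp_surjective φ hφ f
  have hfsum : ∑ m, f m = (Fintype.card (∀ a, GL (Fin (B.d a)) F) : ℂ) *
      ∏ b, classInner (c (σ b) : GL (Fin (B.d (σ b))) F → ℂ)
        (fun m => (c' b : GL (Fin (B'.d b)) F → ℂ) (moveHom (π b) m)) := by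
    have e : ∀ m : ∀ a, GL (Fin (B.d a)) F, f m = ∏ b, ((c (σ b) : GL (Fin (B.d (σ b))) F → ℂ) (m (σ b)) *
        conj ((c' b : GL (Fin (B'.d b)) F → ℂ) (moveHom (π b) (m (σ b))))) := fun m => by
      simp only [f, map_prod, Finset.prod_mul_distrib, piChar]
      rw [← Equiv.prod_comp σ fun a => (c a : GL (Fin (B.d a)) F → ℂ) (m a)]
    rw [Finset.sum_congr rfl fun m _ => e m]
    rw [show (∑ m : ∀ a, GL (Fin (B.d a)) F, ∏ b, ((c (σ b) : GL (Fin (B.d (σ b))) F → ℂ) (m (σ b)) *
          conj ((c' b : GL (Fin (B'.d b)) F → ℂ) (moveHom (π b) (m (σ b)))))) =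
        ∑ m : ∀ b, GL (Fin (B.d (σ b))) F, ∏ b, ((c (σ b) : GL (Fin (B.d (σ b))) F → ℂ) (m b) *
          conj ((c' b : GL (Fin (B'.d b)) F → ℂ) (moveHom (π b) (m b)))) from
      Fintype.sum_equiv (Equiv.piCongrLeft' (fun a => GL (Fin (B.d a)) F) σ.symm) _ _ fun m => rfl,
      ← Fintype.prod_sum fun b (m : GL (Fin (B.d (σ b))) F) =>
        (c (σ b) : GL (Fin (B.d (σ b))) F → ℂ) m *
          conj ((c' b : GL (Fin (B'.d b)) F → ℂ) (moveHom (π b) m))]
    rw [Fintype.card_congr (Equiv.piCongrLeft (fun a => GL (Fin (B.d a)) F) σ).symm, Fintype.card_pi,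
      Nat.cast_prod, ← Finset.prod_mul_distrib]
    refine Finset.prod_congr rfl fun b _ => ?_
    rw [classInner, Nat.card_eq_fintype_card, ← mul_assoc,
      mul_inv_cancel₀ (Nat.cast_ne_zero.2 Fintype.card_ne_zero), one_mul]
  rw [hfsum, mul_left_comm] at hmain
  rw [mackeyMean, hsum, hinter, mul_left_cancel₀ hL hmain, mul_div_cancel_left₀ _ hH]
  rw [Finset.prod_congr rfl fun b _ => classInner_move (π b) (c (σ b)) (c' b)]
  simp only [Finset.prod_boole, Finset.mem_univ, true_implies]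
  rfl

theorem exists_para_perm_para (x : GL (Fin n) F) :
    ∃ p ∈ B.para F, ∃ w, ∃ q ∈ B'.para F, x = p * permGL F w * q := by
  obtain ⟨τ, b₁, h₁, b₂, h₂, h⟩ :=
    GLFlag.exists_bruhat ((permGL F B.sortEquiv)⁻¹ * x * permGL F B'.sortEquiv)
  refine ⟨_, B.sortEquiv_conj_mem (b := b₁) (fun i j hij => h₁ hij),
    B.sortEquiv * τ * B'.sortEquiv⁻¹, _, B'.sortEquiv_conj_mem (b := b₂) (fun i j hij => h₂ hij), ?_⟩
  calc x = permGL F B.sortEquiv * ((permGL F B.sortEquiv)⁻¹ * x * permGL F B'.sortEquiv) *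
        (permGL F B'.sortEquiv)⁻¹ := by group
    _ = _ := by rw [h, map_mul, map_mul, map_inv]; group

/-- The inner product of two parabolically induced characters of cuspidal characters. -/
theorem classInner_ind {c : B.Tuple F} {c' : B'.Tuple F} (hc : B.AllCusp c) (hc' : B'.AllCusp c') :
    classInner (B.ind c) (B'.ind c') = Fintype.card (Match B B' c c') := by
  have hd : ∀ M : Match B B' c c', ∀ b, B'.d b = B.d (M.1 b) := fun M b =>
    (congrArg Sigma.fst (M.2 b)).symm
  rw [ind, ind, classInner_indFun_eq_sum (B.isClassFunction_inflate c) (B'.isClassFunction_inflate c')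
    (fun M : Match B B' c c' => permGL F (B.blockPerm B' M.1 fun b => finCongr (hd M b)))]
  · rw [Finset.sum_congr rfl fun M _ => show mackeyMean (B.para F) (B'.para F) (B.inflate c)
        (B'.inflate c') (permGL F (B.blockPerm B' M.1 fun b => finCongr (hd M b))) = 1 by
      rw [mackeyMean_blockPerm, if_pos M.2]]
    simp
  · -- separation of the double cosets
    intro M M' p hp q hq h
    set w := B.blockPerm B' M.1 fun b => finCongr (hd M b) with hw
    set w' := B.blockPerm B' M'.1 fun b => finCongr (hd M' b) with hw'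
    have hp' := inv_mem hp
    have hent : ∀ i j, ((p⁻¹ : GL (Fin n) F) : Matrix (Fin n) (Fin n) F) (w i) (w' j) =
        (q : Matrix (Fin n) (Fin n) F) i j := by
      intro i j
      have h' : p⁻¹ * permGL F w' = permGL F w * q := by rw [h]; group
      have := congrArg (fun z : GL (Fin n) F => (z : Matrix (Fin n) (Fin n) F) (w i) j) h'
      simp only [Units.val_mul, mul_permGL_apply, permGL_mul_apply, Equiv.Perm.coe_inv,
        Equiv.symm_apply_apply] at this
      exact this
    have hle : ∀ a, (M.1.symm a).val ≤ (M'.1.symm a).val := by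
      intro a
      -- a row of the block has a non-zero entry inside the block
      set g := B.proj ⟨_, hp'⟩ a
      obtain ⟨s, hs⟩ : ∃ s, (g : Matrix (Fin (B.d a)) (Fin (B.d a)) F) ⟨0, B.d_pos a⟩ s ≠ 0 := by
        by_contra hall
        simp only [not_exists, not_not] at hall
        exact g.det.ne_zero (Matrix.det_eq_zero_of_row_eq_zero ⟨0, B.d_pos a⟩ hall)
      rw [proj_apply] at hs
      obtain ⟨i, hi⟩ := w.surjective (B.pos a ⟨0, B.d_pos a⟩)
      obtain ⟨j, hj⟩ := w'.surjective (B.pos a s)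
      rw [← hi, ← hj, hent] at hs
      have hlab := B.lab_blockPerm B' M.1 (fun b => finCongr (hd M b)) i
      have hlab' := B.lab_blockPerm B' M'.1 (fun b => finCongr (hd M' b)) j
      rw [← hw, hi, lab_pos] at hlab
      rw [← hw', hj, lab_pos] at hlab'
      rw [(Equiv.symm_apply_eq _).2 hlab, (Equiv.symm_apply_eq _).2 hlab']
      by_contra hlt
      exact hs (hq i j (Fin.lt_def.2 (not_le.1 hlt)))
    refine Subtype.ext (Equiv.ext fun b => ?_)
    have hsum : ∑ a, (M.1.symm a).val = ∑ a, (M'.1.symm a).val :=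
      (Equiv.sum_comp M.1.symm fun b : Fin B'.k => b.val).trans
        (Equiv.sum_comp M'.1.symm fun b : Fin B'.k => b.val).symm
    have := (Finset.sum_eq_sum_iff_of_le fun a _ => hle a).1 hsum (M.1 b) (Finset.mem_univ _)
    rw [Equiv.symm_apply_apply] at this
    have h2 : M'.1.symm (M.1 b) = b := Fin.ext this.symm
    exact (Equiv.symm_apply_eq _).1 h2
  · -- support
    intro y hy
    obtain ⟨p, hp, w, q, hq, rfl⟩ := B.exists_para_perm_para B' y
    rw [mackeySum_mul (B.isClassFunction_inflate c) (B'.isClassFunction_inflate c') (permGL F w)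
      ⟨p, hp⟩ ⟨q, hq⟩] at hy
    obtain ⟨σ, hσ⟩ := B.exists_blockMap B' hc hc' w hy
    obtain ⟨π, rfl⟩ := B.exists_blockPerm B' w σ hσ
    have hitems : ∀ b, B.item c (σ b) = B'.item c' b := by
      by_contra hnot
      have := B.mackeyMean_blockPerm B' c c' σ π
      rw [if_neg hnot, mackeyMean, div_eq_zero_iff] at this
      exact this.elim hy (Nat.cast_ne_zero.2 (interCard_pos _).ne')
    refine ⟨⟨σ, hitems⟩, p, hp, permGL F ((B.blockPerm B' σ fun b => finCongr (hd ⟨σ, hitems⟩ b))⁻¹ *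
      B.blockPerm B' σ π) * q, mul_mem (B'.permGL_mem_para fun i => σ.injective ?_) hq, ?_⟩
    · rw [Equiv.Perm.mul_apply]
      conv_rhs => rw [← B.lab_blockPerm B' σ π i]
      conv_lhs => rw [← B.lab_blockPerm B' σ (fun b => finCongr (hd ⟨σ, hitems⟩ b))]
      rw [Equiv.Perm.coe_inv, Equiv.apply_symm_apply]
    · rw [map_mul, map_inv]; group

end Blocks

end Cfsg.Agent.GLCusp57
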