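import Cfsg.Agent.GLCusp57.Orth

/-! Heredity of Whittaker multiplicities under parabolic induction. -/

set_option autoImplicit false
set_option linter.unusedSectionVars false

open Matrix
open scoped MatrixGroups ComplexConjugate
open Cfsg

namespace Cfsg.Agent.GLCusp57

open scoped Classical
open GLFlag (permGL)

variable {F : Type*} [Field F] [Fintype F] [DecidableEq F] {n : ℕ}

namespace Blocks

variable (B : Blocks n)

theorem sum_d_rev : ∑ a, B.d (Fin.revPerm a) = n :=
  (Equiv.sum_comp Fin.revPerm B.d).trans B.sum_d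

/-- Coordinates listed by blocks, the last block first. -/
def revEquiv : Fin n ≃ Σ a : Fin B.k, Fin (B.d (Fin.revPerm a)) :=
  (finCongr B.sum_d_rev.symm).trans (finSigmaFinEquiv (n := fun a => B.d (Fin.revPerm a))).symm

/-- The permutation of the open cell. -/
def cellPerm : Equiv.Perm (Fin n) :=
  B.revEquiv.trans ((Equiv.sigmaCongrLeft (β := fun a => Fin (B.d a)) Fin.revPerm).trans B.e.symm)

theorem cellPerm_symm_val (a : Fin B.k) (r : Fin (B.d (Fin.revPerm a))) :
    (B.cellPerm⁻¹ (B.pos (Fin.revPerm a) r)).val =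
      (finSigmaFinEquiv (n := fun a => B.d (Fin.revPerm a)) ⟨a, r⟩).val := by
  have h : B.cellPerm ((finCongr B.sum_d_rev) (finSigmaFinEquiv (n := fun a => B.d (Fin.revPerm a)) ⟨a, r⟩)) =
      B.pos (Fin.revPerm a) r := by
    simp [cellPerm, revEquiv, pos]
  rw [← h, Equiv.Perm.coe_inv, Equiv.symm_apply_apply]
  rfl

theorem cellPerm_symm_add (a : Fin B.k) (r s : Fin (B.d a)) :
    (B.cellPerm⁻¹ (B.pos a s)).val + r.val = (B.cellPerm⁻¹ (B.pos a r)).val + s.val := by
  obtain ⟨a, rfl⟩ := Fin.revPerm.surjective a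
  rw [cellPerm_symm_val, cellPerm_symm_val, finSigmaFinEquiv_apply, finSigmaFinEquiv_apply]
  dsimp only
  omega

theorem lab_cellPerm (i : Fin n) : B.lab (B.cellPerm i) = Fin.rev (B.revEquiv i).1 := by
  simp [lab, cellPerm]

theorem antitone_lab_cellPerm : Antitone (B.lab ∘ B.cellPerm) := by
  intro i j hij
  simp only [Function.comp, lab_cellPerm]
  refine Fin.rev_le_rev.2 ?_
  by_contra hlt
  rw [not_le] at hlt
  have := finSigma_fst_le hlt
  simp only [revEquiv, Equiv.trans_apply, Equiv.apply_symm_apply, Fin.lt_def, finCongr_apply,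
    Fin.val_cast] at this
  exact not_lt.2 (Fin.le_def.1 hij) this

theorem exists_para_perm_unitri (y : GL (Fin n) F) :
    ∃ p ∈ B.para F, ∃ w, ∃ u ∈ unitri n F, y = p * permGL F w * u := by
  obtain ⟨σ, t, u₁, h₁, u₂, h₂, h⟩ := exists_unitri_mono_unitri ((permGL F B.sortEquiv)⁻¹ * y)
  set w := B.sortEquiv * σ with hw
  have e : permGL F B.sortEquiv * monoGL σ t =
      monoGL 1 (fun i => t (w⁻¹ i)) * permGL F w := by
    apply Units.ext
    ext i j
    rw [Units.val_mul, permGL_mul_apply, monoGL_apply, Units.val_mul, mul_permGL_apply, monoGL_apply]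
    simp only [Equiv.Perm.one_apply, hw, Equiv.Perm.coe_inv, Equiv.symm_apply_apply]
    by_cases hc : σ j = B.sortEquiv.symm i
    · rw [if_pos hc, if_pos (show (B.sortEquiv * σ) j = i by simp [Equiv.Perm.mul_apply, hc])]
    · rw [if_neg hc, if_neg fun h' => hc (by simp [← h', Equiv.Perm.mul_apply])]
  refine ⟨permGL F B.sortEquiv * u₁ * (permGL F B.sortEquiv)⁻¹ * monoGL 1 (fun i => t (w⁻¹ i)),
    mul_mem (B.sortEquiv_conj_mem fun i j hij => by
      rw [h₁ i j hij.le, Matrix.one_apply_ne hij.ne']) (B.diag_mem_para _), w, u₂, h₂, ?_⟩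
  calc y = permGL F B.sortEquiv * ((permGL F B.sortEquiv)⁻¹ * y) := by group
    _ = permGL F B.sortEquiv * u₁ * (permGL F B.sortEquiv)⁻¹ *
        (permGL F B.sortEquiv * monoGL σ t) * u₂ := by rw [h]; group
    _ = _ := by rw [e]; group

theorem mackeySum_unitri_eq_zero (c : B.Tuple F) (ψ : AddChar F ℂ) (hψ : ψ ≠ 1)
    (w : Equiv.Perm (Fin n)) {i j : Fin n} (hj : j.val = i.val + 1)
    (hlt : B.lab (w i) < B.lab (w j)) :
    mackeySum (B.para F) (unitri n F) (B.inflate c) (psiChar ψ) (permGL F w) = 0 := by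
  have hne : w i ≠ w j := fun e => hlt.ne (congrArg B.lab e)
  have hij : i < j := Fin.lt_def.2 (by omega)
  have hP : ∀ a : F, elem (w i) (w j) hne a ∈ B.para F := by
    intro a p q hpq
    rw [elem_apply, Matrix.one_apply_ne (fun e => hpq.ne' (congrArg B.lab e)), if_neg, add_zero]
    rintro ⟨rfl, rfl⟩
    exact lt_asymm hlt hpq
  have hconj : ∀ a : F, (permGL F w)⁻¹ * elem (w i) (w j) hne a * permGL F w = elem i j hij.ne a := by
    intro a
    apply Units.ext
    ext p q
    rw [perm_conj_apply', elem_apply, elem_apply]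
    simp [Matrix.one_apply]
  refine mackeySum_eq_zero (fun a : F => elem (w i) (w j) hne a)
    (fun a => ⟨hP a, hconj a ▸ elem_mem_unitri hij a⟩) fun g hg hg' => ?_
  have hterm : ∀ a : F, mackeyFun (B.para F) (unitri n F) (B.inflate c) (psiChar ψ) (permGL F w)
      (g * elem (w i) (w j) hne a) =
      (B.inflate c ⟨g, hg⟩ * conj (psiU ψ ((permGL F w)⁻¹ * g * permGL F w))) * ψ (a * -1) := by
    intro a
    have e : (permGL F w)⁻¹ * (g * elem (w i) (w j) hne a) * permGL F w =
        ((permGL F w)⁻¹ * g * permGL F w) * elem i j hij.ne a := by rw [← hconj a]; group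
    rw [mackeyFun_of_mem (mul_mem hg (hP a)) (e ▸ mul_mem hg' (elem_mem_unitri hij a))]
    have hproj : B.proj ⟨_, hP a⟩ = 1 := by
      funext b
      apply Units.ext
      ext r s
      rw [proj_apply, elem_apply, if_neg, add_zero]
      · simp [Matrix.one_apply, B.pos_inj]
      · rintro ⟨e1, e2⟩
        exact hlt.ne (by rw [e1, e2, lab_pos, lab_pos])
    have e1 : B.inflate c ⟨_, mul_mem hg (hP a)⟩ = B.inflate c ⟨g, hg⟩ := by
      show piChar c (B.proj (⟨g, hg⟩ * ⟨_, hP a⟩)) = _
      rw [map_mul, hproj, mul_one]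
      rfl
    rw [e1]
    simp only [psiChar]
    rw [e, psiU_mul ψ hg' (elem_mem_unitri hij a), map_mul, psiU, psiU, superSum_elem hij, if_pos hj,
      conj_addChar ψ a, mul_neg_one]
    ring
  rw [Finset.sum_congr rfl fun a _ => hterm a, ← Finset.mul_sum,
    AddChar.sum_mulShift (-1 : F) (AddChar.IsPrimitive.of_ne_one hψ),
    if_neg (by simp), Nat.cast_zero, mul_zero]

theorem psiU_cellPerm_conj (ψ : AddChar F ℂ) (m : ∀ a, GL (Fin (B.d a)) F) :
    psiU ψ ((permGL F B.cellPerm)⁻¹ * B.levHom m * permGL F B.cellPerm) = ∏ a, psiU ψ (m a) := by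
  simp only [psiU]
  rw [← map_sum_addChar]
  congr 1
  simp only [superSum]
  rw [← Equiv.sum_comp (B.e.symm.trans B.cellPerm.symm), Fintype.sum_sigma]
  refine Finset.sum_congr rfl fun a _ => Finset.sum_congr rfl fun r _ => ?_
  rw [show (B.e.symm.trans (Equiv.symm B.cellPerm)) ⟨a, r⟩ = B.cellPerm⁻¹ (B.pos a r) from rfl]
  set i := B.cellPerm⁻¹ (B.pos a r) with hi
  by_cases hr : r.val + 1 < B.d a
  · set s : Fin (B.d a) := ⟨r.val + 1, hr⟩
    have hs : (B.cellPerm⁻¹ (B.pos a s)).val = i.val + 1 := by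
      have := B.cellPerm_symm_add a r s
      simp only [s, ← hi] at this ⊢
      omega
    have h1 : i.val + 1 < n := hs ▸ Fin.isLt _
    rw [dif_pos h1, dif_pos hr, perm_conj_apply']
    have e1 : B.cellPerm ⟨i.val + 1, h1⟩ = B.pos a s := by
      rw [show (⟨i.val + 1, h1⟩ : Fin n) = B.cellPerm⁻¹ (B.pos a s) from Fin.ext hs.symm]
      simp
    have e0 : B.cellPerm i = B.pos a r := by simp [hi]
    show (B.levHom m : Matrix (Fin n) (Fin n) F) (B.cellPerm i) (B.cellPerm ⟨i.val + 1, h1⟩) = _
    rw [e0, e1, levHom_apply_pos]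
  · rw [dif_neg hr]
    split_ifs with h1
    · rw [perm_conj_apply']
      show (B.levHom m : Matrix (Fin n) (Fin n) F) (B.cellPerm i) (B.cellPerm ⟨i.val + 1, h1⟩) = _
      refine B.levHom_apply_ne m fun heq => ?_
      rw [show B.cellPerm i = B.pos a r by simp [hi], lab_pos] at heq
      obtain ⟨s, hs⟩ := B.exists_pos' heq.symm
      have := B.cellPerm_symm_add a r s
      rw [hs, ← hi] at this
      simp at this
      omega
    · rfl

/-- Heredity of the Whittaker multiplicity. -/
theorem classInner_ind_gg (c : B.Tuple F) (ψ : AddChar F ℂ) (hψ : ψ ≠ 1) :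
    classInner (B.ind c) (gg n ψ) =
      ∏ a, whittaker (c a : GL (Fin (B.d a)) F → ℂ) ψ := by
  rw [ind, gg, classInner_indFun_eq_sum (B.isClassFunction_inflate c) (isClassFunction_psiChar ψ)
    (fun _ : Unit => permGL F B.cellPerm)]
  · rw [Fintype.sum_unique]
    set x := permGL F B.cellPerm
    let H : Subgroup (GL (Fin n) F) := B.para F ⊓ (unitri n F).comap (MulAut.conj x⁻¹).toMonoidHom
    have hmem : ∀ g, g ∈ H ↔ g ∈ B.para F ∧ x⁻¹ * g * x ∈ unitri n F := fun g => by
      simp [H, Subgroup.mem_inf, Subgroup.mem_comap]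
    have hdiag : ∀ g (hg : g ∈ B.para F), x⁻¹ * g * x ∈ unitri n F →
        g = B.levHom (B.proj ⟨g, hg⟩) ∧ ∀ a, B.proj ⟨g, hg⟩ a ∈ unitri (B.d a) F := by
      intro g hg hg'
      constructor
      · apply Units.ext
        ext p q
        by_cases hpq : B.lab p = B.lab q
        · obtain ⟨a, r, rfl⟩ := B.exists_pos p
          obtain ⟨s, rfl⟩ := B.exists_pos' (i := q) (a := a) (by rw [← hpq, lab_pos])
          rw [levHom_apply_pos, proj_apply]
        · rw [B.levHom_apply_ne _ hpq]
          rcases lt_or_gt_of_ne hpq with h | h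
          · have hle : B.cellPerm⁻¹ q ≤ B.cellPerm⁻¹ p := by
              by_contra hlt
              have := B.antitone_lab_cellPerm (not_le.1 hlt).le
              simp only [Function.comp, Equiv.Perm.coe_inv, Equiv.apply_symm_apply] at this
              exact not_lt.2 this h
            have := hg' _ _ hle
            rw [perm_conj_apply'] at this
            simp only [Equiv.Perm.coe_inv, Equiv.apply_symm_apply] at this
            rw [this, Matrix.one_apply_ne]
            exact fun e => hpq (congrArg B.lab (B.cellPerm.symm.injective e))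
          · exact hg p q h
      · intro a r s hsr
        rw [proj_apply]
        have h0 := B.cellPerm_symm_add a r s
        have hle : B.cellPerm⁻¹ (B.pos a s) ≤ B.cellPerm⁻¹ (B.pos a r) :=
          Fin.le_def.2 (by have := Fin.le_def.1 hsr; omega)
        have := hg' _ _ hle
        rw [perm_conj_apply'] at this
        simp only [Equiv.Perm.coe_inv, Equiv.apply_symm_apply] at this
        rw [this]
        simp [Matrix.one_apply, B.pos_inj]
    have hlev : ∀ m : (∀ a, unitri (B.d a) F),
        x⁻¹ * B.levHom (fun a => (m a).1) * x ∈ unitri n F := by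
      intro m p q hqp
      rw [perm_conj_apply']
      by_cases hl : B.lab (B.cellPerm p) = B.lab (B.cellPerm q)
      · obtain ⟨r, hr⟩ := B.exists_pos' (i := B.cellPerm p) rfl
        obtain ⟨s, hs⟩ := B.exists_pos' (i := B.cellPerm q) hl.symm
        rw [← hr, ← hs, levHom_apply_pos, (m _).2 r s]
        · rw [Matrix.one_apply, Matrix.one_apply]
          refine if_congr ?_ rfl rfl
          rw [← B.cellPerm.injective.eq_iff]
          exact (B.pos_inj.symm.trans (Eq.congr hr hs))
        · have h0 := B.cellPerm_symm_add (B.lab (B.cellPerm p)) r s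
          rw [hr, hs] at h0
          simp at h0
          rw [Fin.le_def] at hqp ⊢
          omega
      · rw [B.levHom_apply_ne _ hl, Matrix.one_apply_ne]
        exact fun e => hl (by rw [e])
    let e : H ≃ (∀ a, unitri (B.d a) F) :=
      { toFun := fun h a => ⟨_, (hdiag h.1 ((hmem _).1 h.2).1 ((hmem _).1 h.2).2).2 a⟩
        invFun := fun m => ⟨B.levHom fun a => (m a).1,
          (hmem _).2 ⟨(B.sec fun a => (m a).1).2, hlev m⟩⟩
        left_inv := fun h => Subtype.ext (hdiag h.1 ((hmem _).1 h.2).1 ((hmem _).1 h.2).2).1.symm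
        right_inv := fun m => funext fun a => Subtype.ext
          (congrFun (B.proj_sec fun a => (m a).1) a) }
    have hinter : interCard (B.para F) (unitri n F) x = ∏ a, Nat.card (unitri (B.d a) F) := by
      rw [interCard, ← Nat.card_pi, ← Nat.card_congr e]
      exact Nat.card_congr (Equiv.subtypeEquivRight fun g => (hmem g).symm)
    have hsum : mackeySum (B.para F) (unitri n F) (B.inflate c) (psiChar ψ) x =
        ∑ m : ∀ a, unitri (B.d a) F, ∏ a, ((c a : GL (Fin (B.d a)) F → ℂ) (m a).1 *
          conj (psiU ψ (m a).1)) := by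
      rw [mackeySum, ← Finset.sum_subset (Finset.subset_univ (Finset.univ.filter (· ∈ H)))
        (fun g _ hg => mackeyFun_eq_zero fun h => hg (by simpa using (hmem g).2 h)),
        Finset.sum_subtype (p := (· ∈ H)) _ (fun g => by simp)]
      refine (Fintype.sum_equiv e.symm _ _ fun m => ?_).symm
      show _ = mackeyFun _ _ _ _ x (B.levHom fun a => (m a).1)
      rw [mackeyFun_of_mem' (x := x) (g := B.levHom fun a => (m a).1)
        (a := B.sec fun a => (m a).1) (b := ⟨_, hlev m⟩) rfl rfl]
      simp only [inflate, B.proj_sec, psiChar, piChar]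
      rw [psiU_cellPerm_conj B ψ, map_prod, Finset.prod_mul_distrib]
    rw [mackeyMean, hsum, hinter, Nat.cast_prod,
      ← Fintype.prod_sum fun a (u : unitri (B.d a) F) =>
        (c a : GL (Fin (B.d a)) F → ℂ) u.1 * conj (psiU ψ u.1), ← Finset.prod_div_distrib]
    refine Finset.prod_congr rfl fun a _ => ?_
    rw [whittaker, div_eq_inv_mul]
  · exact fun _ _ _ _ _ _ _ => rfl
  · intro y hy
    obtain ⟨p, hp, w, u, hu, rfl⟩ := B.exists_para_perm_unitri y
    rw [mackeySum_mul (B.isClassFunction_inflate c) (isClassFunction_psiChar ψ) (permGL F w) ⟨p, hp⟩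
      ⟨u, hu⟩] at hy
    have hstep : ∀ i j : Fin n, j.val = i.val + 1 → B.lab (w j) ≤ B.lab (w i) := fun i j hj =>
      not_lt.1 fun hlt => hy (B.mackeySum_unitri_eq_zero c ψ hψ w hj hlt)
    have hanti : Antitone (B.lab ∘ w) := by
      intro i j hij
      obtain ⟨d, hd⟩ : ∃ d, j.val = i.val + d := ⟨j.val - i.val, by have := Fin.le_def.1 hij; omega⟩
      induction d generalizing j with
      | zero => obtain rfl : j = i := Fin.ext (by omega); exact le_rfl
      | succ d ih =>
        let j' : Fin n := ⟨i.val + d, by omega⟩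
        exact (hstep j' j (by simp [j']; omega)).trans (ih (Fin.le_def.2 (by simp [j'])) rfl)
    have heq : B.lab ∘ w = B.lab ∘ B.cellPerm := by
      have h1 : Monotone (B.lab ∘ (w * Fin.revPerm : Equiv.Perm (Fin n))) := fun i j hij =>
        hanti (Fin.rev_le_rev.2 hij)
      have h2 : Monotone (B.lab ∘ (B.cellPerm * Fin.revPerm : Equiv.Perm (Fin n))) := fun i j hij =>
        B.antitone_lab_cellPerm (Fin.rev_le_rev.2 hij)
      have := Tuple.unique_monotone h1 h2
      funext i
      simpa using congrFun this (Fin.rev i)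
    refine ⟨(), p * permGL F (w * B.cellPerm⁻¹), mul_mem hp (B.permGL_mem_para fun i => ?_), u, hu, ?_⟩
    · have := congrFun heq (B.cellPerm⁻¹ i)
      simpa using this
    · rw [map_mul, map_inv]; group

end Blocks

end Cfsg.Agent.GLCusp57
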