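import Cfsg.Agent.GLCusp57.Rodier

/-! Every irreducible character lies in a series induced from cuspidal characters. -/

set_option autoImplicit false
set_option linter.unusedSectionVars false

open Matrix
open scoped MatrixGroups ComplexConjugate
open Cfsg

namespace Cfsg.Agent.GLCusp57

open scoped Classical

variable {F : Type*} [Field F] [Fintype F] [DecidableEq F] {n : ℕ}

namespace Blocks

variable (B : Blocks n)

/-- The sum of a function over the unipotent radical. -/
noncomputable def radSum (χ : GL (Fin n) F → ℂ) : ℂ :=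
  ∑ g : GL (Fin n) F, if (∀ i j, B.lab j ≤ B.lab i →
    (g : Matrix (Fin n) (Fin n) F) i j = (1 : Matrix (Fin n) (Fin n) F) i j) then χ g else 0

/-- The Jacquet function on the Levi factor. -/
noncomputable def jacquet (χ : GL (Fin n) F → ℂ) (m : ∀ a, GL (Fin (B.d a)) F) : ℂ :=
  ∑ g : B.para F, if B.proj g = m then χ g else 0

theorem isClassFunction_jacquet {χ : GL (Fin n) F → ℂ} (hχ : IsClassFunction _ χ) :
    IsClassFunction _ (B.jacquet χ) := by
  intro m h
  refine Fintype.sum_equiv (MulAut.conj (B.sec h)⁻¹).toEquiv _ _ fun g => ?_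
  have e : B.proj ((MulAut.conj (B.sec h)⁻¹).toEquiv g) = h⁻¹ * B.proj g * h := by
    simp [B.proj_sec]
  rw [e]
  refine if_congr ⟨fun hg => by rw [hg]; group, fun hg => by rw [← hg]; group⟩ ?_ rfl
  simp only [MulEquiv.toEquiv_eq_coe, MulEquiv.coe_toEquiv, MulAut.conj_apply, Subgroup.coe_mul,
    Subgroup.coe_inv]
  exact (hχ _ _).symm

theorem classInner_jacquet {χ : GL (Fin n) F → ℂ} (hχ : IsCharacter _ χ) (c : B.Tuple F) :
    classInner (B.jacquet χ) (piChar c) =
      ((Nat.card (B.para F) : ℂ) / Nat.card (∀ a, GL (Fin (B.d a)) F)) *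
        classInner χ (B.ind c) := by
  rw [ind, CharInd.classInner_indFun_right _ _ (CharInd.isClassFunction_of_isCharacter hχ),
    classInner, classInner]
  simp only [jacquet, Finset.sum_mul, ite_mul, zero_mul]
  rw [Finset.sum_comm]
  simp only [Finset.sum_ite_eq, Finset.mem_univ, if_true]
  have hP : (Nat.card (B.para F) : ℂ) ≠ 0 := Nat.cast_ne_zero.2 Nat.card_pos.ne'
  rw [div_mul_eq_mul_div, mul_div_assoc, mul_comm (Nat.card (B.para F) : ℂ), div_mul_eq_mul_div,
    mul_comm ((Nat.card (B.para F) : ℂ))⁻¹, mul_assoc, inv_mul_cancel₀ hP, mul_one, div_eq_inv_mul]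
  rfl

/-- The multiplicity of a character in an induced one, as a natural number. -/
theorem exists_nat_jacquet {χ : GL (Fin n) F → ℂ} (hχ : IsCharacter _ χ) (c : B.Tuple F) :
    ∃ N : ℕ, classInner χ (B.ind c) = N :=
  CharCore.IsCharacter.exists_classInner_eq_natCast hχ (B.isCharacter_ind c)

theorem exists_nat_cornerSum {d : ℕ} (χ : IrrCharacter (GL (Fin d) F)) (C : Finset (Fin d)) :
    ∃ N : ℕ, ∑ v : corner F C, (χ : GL (Fin d) F → ℂ) v = N := by
  obtain ⟨k, hk⟩ := CharCore.IsCharacter.exists_classInner_eq_natCast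
    (CharCore.isCharacter_restrict (CharCore.irr_isCharacter χ) (corner F C)) CharCore.isCharacter_one
  refine ⟨Nat.card (corner F C) * k, ?_⟩
  rw [Nat.cast_mul, ← hk, classInner, ← mul_assoc,
    mul_inv_cancel₀ (Nat.cast_ne_zero.2 Nat.card_pos.ne'), one_mul]
  simp

/-- A radical with non-vanishing sum can be refined at a non-cuspidal block. -/
theorem exists_refine {χ : GL (Fin n) F → ℂ} (hχ : IsCharacter _ χ) {c : B.Tuple F}
    (hc : classInner χ (B.ind c) ≠ 0) {a : Fin B.k} {m : ℕ} (hm0 : 0 < m) (hmd : m < B.d a)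
    (hsum : ∑ v : corner F (stdCorner (B.d a) m), (c a : GL (Fin (B.d a)) F → ℂ) v ≠ 0) :
    ∃ B' : Blocks n, B'.k = B.k + 1 ∧ B'.radSum χ ≠ 0 := by
  let low : Fin n → Prop := fun i => B.lab i < a ∨ (B.lab i = a ∧ (B.e i).2.val < m)
  let f : Fin n → Fin (B.k + 1) := fun i => if low i then (B.lab i).castSucc else (B.lab i).succ
  have hlow : ∀ b r, low (B.pos b r) ↔ (b < a ∨ (b = a ∧ r.val < m)) := fun b r => by
    have h : ∀ x : Σ a : Fin B.k, Fin (B.d a), x = ⟨b, r⟩ → x.2.val = r.val := by
      rintro _ rfl; rfl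
    simp only [low, lab_pos, h _ (B.e_pos b r)]
  have hfv : ∀ b r, (f (B.pos b r)).val = if b < a ∨ (b = a ∧ r.val < m) then b.val else b.val + 1 := by
    intro b r
    simp only [f, hlow, lab_pos]
    split_ifs <;> simp
  have hf : Function.Surjective f := by
    intro b
    rcases lt_trichotomy b.val (a.val + 1) with hb | hb | hb
    · rcases Nat.lt_succ_iff_lt_or_eq.1 hb with hb' | hb'
      · refine ⟨B.pos ⟨b.val, by omega⟩ ⟨0, B.d_pos _⟩, Fin.ext ?_⟩
        rw [hfv, if_pos (Or.inl (Fin.lt_def.2 hb'))]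
      · refine ⟨B.pos a ⟨0, B.d_pos _⟩, Fin.ext ?_⟩
        rw [hfv, if_pos (Or.inr ⟨rfl, hm0⟩), hb']
    · refine ⟨B.pos a ⟨m, hmd⟩, Fin.ext ?_⟩
      rw [hfv, if_neg (by simp), hb]
    · have hb2 : b.val - 1 < B.k := by have := b.isLt; omega
      refine ⟨B.pos ⟨b.val - 1, hb2⟩ ⟨0, B.d_pos _⟩, Fin.ext ?_⟩
      rw [hfv, if_neg]
      · simp; omega
      · rw [not_or, not_and, Fin.lt_def, Fin.ext_iff]
        refine ⟨by simp; omega, fun h => ?_⟩
        simp at h
        omega
  refine ⟨ofLabel f hf, rfl, ?_⟩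
  set B' := ofLabel f hf with hB'
  have hB'lab : ∀ b r, (B'.lab (B.pos b r)).val =
      if b < a ∨ (b = a ∧ r.val < m) then b.val else b.val + 1 := fun b r => hfv b r
  -- the new radical
  have hiff : ∀ g : GL (Fin n) F, (∀ i j, B'.lab j ≤ B'.lab i →
      (g : Matrix (Fin n) (Fin n) F) i j = (1 : Matrix (Fin n) (Fin n) F) i j) ↔
      ∃ hg : g ∈ B.para F, ∃ v : corner F (stdCorner (B.d a) m),
        B.proj ⟨g, hg⟩ = Pi.mulSingle a v.1 := by
    intro g
    constructor
    · intro h
      have hg : g ∈ B.para F := by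
        intro i j hij
        obtain ⟨b, r, rfl⟩ := B.exists_pos i
        obtain ⟨b', r', rfl⟩ := B.exists_pos j
        rw [lab_pos, lab_pos] at hij
        rw [h _ _ (Fin.le_def.2 ?_), Matrix.one_apply_ne (fun e => hij.ne' (by
          simpa using congrArg B.lab e))]
        rw [hB'lab, hB'lab]
        rw [Fin.lt_def] at hij
        split_ifs <;> omega
      have hb : ∀ b r r', (b ≠ a ∨ ¬(r.val < m ∧ ¬ r'.val < m)) →
          (B.proj ⟨g, hg⟩ b : Matrix (Fin (B.d b)) (Fin (B.d b)) F) r r' =
            (1 : Matrix (Fin (B.d b)) (Fin (B.d b)) F) r r' := by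
        intro b r r' hcase
        rw [proj_apply, h _ _ (Fin.le_def.2 ?_)]
        · simp [Matrix.one_apply, B.pos_inj]
        · rw [hB'lab, hB'lab]
          split_ifs with h1 h2 h2
          · omega
          · omega
          · exfalso
            rcases h2 with h2 | ⟨h0, h2⟩
            · exact h1 (Or.inl h2)
            · exact hcase.elim (fun h => h h0) fun h => h ⟨h2, fun h3 => h1 (Or.inr ⟨h0, h3⟩)⟩
          · omega
      refine ⟨hg, ⟨B.proj ⟨g, hg⟩ a, fun r r' hrr => hb a r r' (Or.inr (by simpa using hrr))⟩, ?_⟩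
      funext b
      by_cases hba : b = a
      · subst hba; simp
      · rw [Pi.mulSingle_eq_of_ne hba]
        exact Units.ext (Matrix.ext fun r r' => hb b r r' (Or.inl hba))
    · rintro ⟨hg, v, hv⟩ i j hij
      obtain ⟨b, r, rfl⟩ := B.exists_pos i
      obtain ⟨b', r', rfl⟩ := B.exists_pos j
      rw [Fin.le_def, hB'lab, hB'lab] at hij
      rcases lt_trichotomy b' b with hlt | rfl | hlt
      · rw [hg _ _ (by simpa using hlt), Matrix.one_apply_ne]
        exact fun e => hlt.ne' (by simpa using congrArg B.lab e)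
      · have := congrArg (fun x : GL (Fin (B.d b')) F => (x : Matrix (Fin (B.d b')) (Fin (B.d b')) F) r r')
          (congrFun hv b')
        simp only [proj_apply] at this
        rw [this]
        by_cases hba : b' = a
        · subst hba
          rw [Pi.mulSingle_eq_same, v.2 r r' (fun h => ?_)]
          · simp [Matrix.one_apply, B.pos_inj]
          · simp only [mem_stdCorner, lt_irrefl, false_or, true_and] at h hij
            rw [if_pos h.1, if_neg h.2] at hij
            omega
        · rw [Pi.mulSingle_eq_of_ne hba]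
          simp [Matrix.one_apply, B.pos_inj]
      · exfalso
        have h1 := Fin.lt_def.1 hlt
        split_ifs at hij with p1 p2 p2
        all_goals omega
  -- evaluation through the Jacquet function
  have hrad : B'.radSum χ =
      ∑ v : corner F (stdCorner (B.d a) m), B.jacquet χ (Pi.mulSingle a v.1) := by
    simp only [radSum, jacquet]
    rw [Finset.sum_comm]
    have : ∀ g : B.para F, (∑ v : corner F (stdCorner (B.d a) m),
        if B.proj g = Pi.mulSingle a v.1 then χ g else 0) =
        if (∃ v : corner F (stdCorner (B.d a) m), B.proj g = Pi.mulSingle a v.1) then χ g else 0 := by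
      intro g
      split_ifs with h
      · obtain ⟨v, hv⟩ := h
        rw [Finset.sum_eq_single v, if_pos hv]
        · intro w _ hw
          rw [if_neg]
          intro hw'
          exact hw (Subtype.ext (Pi.mulSingle_injective (M := fun b => GL (Fin (B.d b)) F) a
            (hw'.symm.trans hv)))
        · simp
      · exact Finset.sum_eq_zero fun v _ => if_neg fun hv => h ⟨v, hv⟩
    rw [Finset.sum_congr rfl fun g _ => this g]
    rw [← Finset.sum_filter, ← Finset.sum_filter]
    refine Finset.sum_bij (fun g hg => (⟨g, ((hiff g).1 (Finset.mem_filter.1 hg).2).1⟩ : B.para F))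
      (fun g hg => Finset.mem_filter.2 ⟨Finset.mem_univ _, ((hiff g).1 (Finset.mem_filter.1 hg).2).2⟩)
      (fun g _ g' _ h => congrArg Subtype.val h) (fun g hg => ⟨g.1, Finset.mem_filter.2
        ⟨Finset.mem_univ _, (hiff g.1).2 ⟨g.2, (Finset.mem_filter.1 hg).2⟩⟩, rfl⟩) fun g hg => rfl
  rw [hrad]
  choose N hN using fun c' : B.Tuple F => B.exists_nat_jacquet hχ c'
  choose V hV using fun χ' : IrrCharacter (GL (Fin (B.d a)) F) =>
    exists_nat_cornerSum χ' (stdCorner (B.d a) m)
  choose D hD using fun (b : Fin B.k) (χ' : IrrCharacter (GL (Fin (B.d b)) F)) =>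
    CharCore.IsIrrCharacter.exists_degree χ'.2
  have hexp : ∀ v : corner F (stdCorner (B.d a) m), B.jacquet χ (Pi.mulSingle a v.1) =
      ∑ c' : B.Tuple F, ((Nat.card (B.para F) : ℂ) / Nat.card (∀ a, GL (Fin (B.d a)) F)) * (N c' : ℂ) *
        ((∏ b ∈ Finset.univ.erase a, (D b (c' b) : ℂ)) * (c' a : GL (Fin (B.d a)) F → ℂ) v.1) := by
    intro v
    conv_lhs => rw [eq_sum_piChar (B.isClassFunction_jacquet (CharInd.isClassFunction_of_isCharacter hχ))]
    rw [Finset.sum_apply]
    refine Finset.sum_congr rfl fun c' _ => ?_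
    rw [Pi.smul_apply, smul_eq_mul, B.classInner_jacquet hχ, hN, piChar,
      ← Finset.mul_prod_erase _ _ (Finset.mem_univ a), Pi.mulSingle_eq_same]
    rw [mul_comm ((c' a : GL (Fin (B.d a)) F → ℂ) v.1)]
    congr 2
    refine Finset.prod_congr rfl fun b hb => ?_
    rw [Pi.mulSingle_eq_of_ne (Finset.ne_of_mem_erase hb), (hD b (c' b)).2]
  rw [Finset.sum_congr rfl fun v _ => hexp v, Finset.sum_comm]
  simp only [← Finset.mul_sum, hV]
  simp only [mul_assoc, ← Finset.mul_sum]
  refine mul_ne_zero (div_ne_zero (Nat.cast_ne_zero.2 Nat.card_pos.ne')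
    (Nat.cast_ne_zero.2 Nat.card_pos.ne')) ?_
  rw [Finset.sum_congr rfl fun c' _ => show _ = ((N c' * ((∏ b ∈ Finset.univ.erase a, D b (c' b)) *
      V (c' a)) : ℕ) : ℂ) by push_cast; rfl, ← Nat.cast_sum, Nat.cast_ne_zero]
  intro h0
  have := Finset.sum_eq_zero_iff.1 h0 c (Finset.mem_univ c)
  rcases mul_eq_zero.1 this with h | h
  · exact hc (by rw [hN, h, Nat.cast_zero])
  rcases mul_eq_zero.1 h with h | h
  · obtain ⟨b, -, hb⟩ := Finset.prod_eq_zero_iff.1 h
    exact (hD b (c b)).1.ne' hb
  · exact hsum (by rw [hV, h, Nat.cast_zero])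

/-- Existence of a cuspidal support. -/
theorem exists_support (hn : 1 ≤ n) (χ : IrrCharacter (GL (Fin n) F)) :
    ∃ (B : Blocks n) (c : B.Tuple F),
      B.AllCusp c ∧ classInner (χ : GL (Fin n) F → ℂ) (B.ind c) ≠ 0 := by
  let P : ℕ → Prop := fun k => ∃ B : Blocks n, B.k = k ∧ B.radSum (χ : GL (Fin n) F → ℂ) ≠ 0
  let f : Fin n → Fin 1 := fun _ => 0
  have hf : Function.Surjective f := fun b => ⟨⟨0, hn⟩, Subsingleton.elim _ _⟩
  have h1 : P 1 := by
    refine ⟨ofLabel f hf, rfl, ?_⟩
    rw [radSum, Finset.sum_eq_single 1]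
    · rw [if_pos (fun i j _ => by simp)]
      exact CharCore.irr_apply_one_ne_zero χ
    · intro g _ hg
      rw [if_neg]
      intro h
      exact hg (Units.ext (Matrix.ext fun i j => h i j (by
        rw [lab_ofLabel, lab_ofLabel]; exact le_of_eq (Fin.ext (by simp [f])))))
    · simp
  obtain ⟨B, hBk, hB⟩ := Nat.findGreatest_spec (P := P) (m := 1) hn h1
  have hJ : B.jacquet (χ : GL (Fin n) F → ℂ) ≠ 0 := by
    intro h0
    apply hB
    have := congrFun h0 1
    rw [Pi.zero_apply] at this
    rw [← this, radSum, jacquet, ← Finset.sum_filter, ← Finset.sum_filter]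
    refine Finset.sum_bij (fun g hg => (⟨g, fun i j hij => by
        rw [(Finset.mem_filter.1 hg).2 i j hij.le, Matrix.one_apply_ne]
        rintro rfl; exact lt_irrefl _ hij⟩ : B.para F))
      (fun g hg => Finset.mem_filter.2 ⟨Finset.mem_univ _, funext fun a => Units.ext
        (Matrix.ext fun r s => by
          rw [proj_apply, (Finset.mem_filter.1 hg).2 _ _ (by simp)]
          simp [Matrix.one_apply, B.pos_inj])⟩)
      (fun g _ g' _ h => congrArg Subtype.val h) (fun g hg => ⟨g.1, Finset.mem_filter.2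
        ⟨Finset.mem_univ _, fun i j hij => ?_⟩, rfl⟩) fun g hg => rfl
    rcases lt_or_eq_of_le hij with hlt | heq
    · rw [g.2 i j hlt, Matrix.one_apply_ne]
      rintro rfl; exact lt_irrefl _ hlt
    · obtain ⟨a, r, rfl⟩ := B.exists_pos i
      obtain ⟨s, rfl⟩ := B.exists_pos' (i := j) (a := a) (by rw [heq, lab_pos])
      have := congrArg (fun x : GL (Fin (B.d a)) F => (x : Matrix (Fin (B.d a)) (Fin (B.d a)) F) r s)
        (congrFun (Finset.mem_filter.1 hg).2 a)
      simp only [proj_apply, Pi.one_apply, Units.val_one] at this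
      rw [this]
      simp [Matrix.one_apply, B.pos_inj]
  obtain ⟨c, hc⟩ := exists_classInner_piChar_ne_zero
    (B.isClassFunction_jacquet (CharCore.irr_isClassFunction χ)) hJ
  rw [B.classInner_jacquet (CharCore.irr_isCharacter χ)] at hc
  have hc' : classInner (χ : GL (Fin n) F → ℂ) (B.ind c) ≠ 0 := fun h => hc (by rw [h, mul_zero])
  refine ⟨B, c, fun a => ?_, hc'⟩
  intro m hm0 hmd
  by_contra hsum
  obtain ⟨B', hk', hB'⟩ := B.exists_refine (CharCore.irr_isCharacter χ) hc' hm0 hmd hsum
  have := Nat.le_findGreatest (P := P) B'.k_le ⟨B', rfl, hB'⟩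
  rw [hk', hBk] at this
  omega

end Blocks

end Cfsg.Agent.GLCusp57
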